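import Groth.Agent.CohenPresLib.FlatRegular
import Groth.Agent.AdicLemmas.Basic

/-!
Flat lifts are determined by their reductions.
-/

set_option autoImplicit false
set_option linter.style.haveILetI false
universe u

open IsLocalRing TensorProduct

noncomputable section

namespace Groth.Agent.CohenPresLib

/-- A map to a flat algebra which is bijective modulo an ideal of the base is bijective. -/
theorem bijective_of_flat {R S S' : Type u} [CommRing R] [CommRing S] [CommRing S'] [Algebra R S] [Algebra R S']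
    [IsLocalRing S] [IsNoetherianRing S] (I : Ideal R) [Module.Flat R S']
    [IsPrecomplete (I.map (algebraMap R S)) S] [IsHausdorff (I.map (algebraMap R S')) S']
    (hI : I.map (algebraMap R S) ≤ maximalIdeal S) (v : S →ₐ[R] S')
    (hsurj : ∀ y : S', ∃ x : S, v x - y ∈ I.map (algebraMap R S'))
    (hinj : ∀ x : S, v x ∈ I.map (algebraMap R S') → x ∈ I.map (algebraMap R S)) :
    Function.Bijective v := by
  have hmap : (I.map (algebraMap R S)).map v.toRingHom = I.map (algebraMap R S') := by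
    rw [Ideal.map_map]
    congr 1
    exact RingHom.ext fun r => v.commutes r
  have hs : Function.Surjective v := by
    haveI : IsHausdorff ((I.map (algebraMap R S)).map v.toRingHom) S' := by rw [hmap]; infer_instance
    refine surjective_of_mk_map_comp_surjective (I := I.map (algebraMap R S)) (f := v.toRingHom) fun z => ?_
    obtain ⟨y, rfl⟩ := Ideal.Quotient.mk_surjective z
    obtain ⟨x, hx⟩ := hsurj y
    exact ⟨x, Ideal.Quotient.eq.2 (hmap ▸ hx)⟩
  refine ⟨?_, hs⟩
  let N : Ideal S := RingHom.ker v.toRingHom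
  have hle : N ≤ I.map (algebraMap R S) * N := by
    intro x hx
    have h1 : x ∈ I.map (algebraMap R S) := hinj x (by
      rw [show v x = 0 from hx]; exact zero_mem _)
    have h2 : x ∈ LinearMap.ker v.toLinearMap ⊓ I • (⊤ : Submodule R S) :=
      ⟨LinearMap.mem_ker.2 hx, by rw [Ideal.smul_top_eq_map]; exact h1⟩
    rw [LinearMap.ker_inf_smul_top_eq_smul_of_flat I v.toLinearMap hs] at h2
    refine Submodule.smul_induction_on h2 (fun r hr y hy => ?_) (fun a b ha hb => add_mem ha hb)
    rw [Algebra.smul_def]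
    exact Ideal.mul_mem_mul (Ideal.mem_map_of_mem _ hr) (LinearMap.mem_ker.1 hy)
  have hN : N = ⊥ := Submodule.eq_bot_of_le_smul_of_le_jacobson_bot (I.map (algebraMap R S)) N
    (IsNoetherian.noetherian N) hle (hI.trans (IsLocalRing.maximalIdeal_le_jacobson ⊥))
  exact (RingHom.injective_iff_ker_eq_bot v.toRingHom).2 hN

theorem exists_algEquiv_lift {A B B' : Type u} [CommRing A] (J : Ideal A)
    [CommRing B] [IsLocalRing B] [IsNoetherianRing B] [Algebra A B] [CommRing B'] [Algebra A B']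
    (hB : J.map (algebraMap A B) ≤ maximalIdeal B)
    [IsAdicComplete (J.map (algebraMap A B)) B] [IsAdicComplete (J.map (algebraMap A B')) B']
    (hfs : EGA41.IsFormallySmoothAdic A J B (J.map (algebraMap A B))) [Module.Flat A B']
    (u₀ : (B ⧸ J.map (algebraMap A B)) ≃ₐ[A ⧸ J] (B' ⧸ J.map (algebraMap A B'))) :
    ∃ u : B ≃ₐ[A] B', ∀ b : B,
      Ideal.Quotient.mk (J.map (algebraMap A B')) (u b) = u₀ (Ideal.Quotient.mk (J.map (algebraMap A B)) b) := by
  haveI : IsHausdorff ((J.map (algebraMap A B')).map (Ideal.Quotient.mk (J.map (algebraMap A B'))))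
      (B' ⧸ J.map (algebraMap A B')) := by
    rw [Ideal.map_quotient_self]; infer_instance
  let u : B →ₐ[A] B' ⧸ J.map (algebraMap A B') :=
    (u₀.restrictScalars A).toAlgHom.comp (Ideal.Quotient.mkₐ A _)
  obtain ⟨v, -, hv⟩ := FSmoothAdicLib.exists_lift_complete J (J.map (algebraMap A B)) (J.map (algebraMap A B')) hfs
    ⟨1, by rw [pow_one]⟩ (J.map (algebraMap A B')) ⟨1, by rw [pow_one]⟩ u ⟨1, by
      rw [pow_one, Ideal.map_le_iff_le_comap]
      intro b hb
      rw [Ideal.mem_comap]
      show u₀ (Ideal.Quotient.mk (J.map (algebraMap A B)) b) ∈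
        ((J.map (algebraMap A B')).map (Ideal.Quotient.mk (J.map (algebraMap A B'))))
      rw [Ideal.Quotient.eq_zero_iff_mem.2 hb, map_zero]
      exact zero_mem _⟩
  have hv' : ∀ b, Ideal.Quotient.mk (J.map (algebraMap A B')) (v b) = u₀ (Ideal.Quotient.mk _ b) := AlgHom.congr_fun hv
  have hb := bijective_of_flat J hB v (fun y => by
      obtain ⟨x, hx⟩ := Ideal.Quotient.mk_surjective (u₀.symm (Ideal.Quotient.mk _ y))
      exact ⟨x, Ideal.Quotient.eq.1 (by rw [hv', hx, u₀.apply_symm_apply])⟩)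
    (fun x hx => by
      have h1 := hv' x
      rw [Ideal.Quotient.eq_zero_iff_mem.2 hx, eq_comm, map_eq_zero_iff _ u₀.injective,
        Ideal.Quotient.eq_zero_iff_mem] at h1
      exact h1)
  exact ⟨AlgEquiv.ofBijective v hb, hv'⟩

theorem adic_of_egaAdic {A B : Type u} [CommRing A] [CommRing B] [IsLocalRing A] [IsLocalRing B] [Algebra A B]
    [IsLocalHom (algebraMap A B)] (h : EGA41.IsFormallySmoothAdic A (maximalIdeal A) B (maximalIdeal B)) :
    CAlgX.IsAdicFormallySmooth A B (maximalIdeal B) := by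
  intro C _ _ J hJ ψ ⟨k, hk⟩
  refine h C J ⟨2, by rw [hJ, Ideal.zero_eq_bot]⟩ ⟨k + k, ?_⟩ ψ ⟨k, hk⟩
  rw [eq_bot_iff, ← hJ, pow_add, Ideal.map_mul, pow_two]
  have hle : (maximalIdeal A ^ k).map (algebraMap A C) ≤ J := Ideal.map_le_iff_le_comap.2 fun a ha => by
    refine (Ideal.Quotient.eq_zero_iff_mem (I := J)).1 ((ψ.commutes a).symm.trans (hk _ ?_))
    refine Ideal.pow_right_mono (IsLocalRing.map_maximalIdeal_le (algebraMap A B)) k ?_
    rw [← Ideal.map_pow]
    exact Ideal.mem_map_of_mem _ ha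
  exact Ideal.mul_mono hle hle

/-- Adic formal smoothness only depends on the reduction modulo an ideal killed by the test map. -/
theorem adic_quotient {A B A' B' : Type u} [CommRing A] [CommRing B] [CommRing A'] [CommRing B']
    [Algebra A B] [Algebra A A'] [Algebra A' B'] [Algebra A B'] [IsScalarTower A A' B']
    (hA : Function.Surjective (algebraMap A A')) (π : B →ₐ[A] B') (hπ : Function.Surjective π)
    (hker : RingHom.ker π ≤ (RingHom.ker (algebraMap A A')).map (algebraMap A B))
    (𝔫 : Ideal B) (h : CAlgX.IsAdicFormallySmooth A B 𝔫) :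
    CAlgX.IsAdicFormallySmooth A' B' (𝔫.map π.toRingHom) := by
  intro T _ _ J hJ ψ ⟨n, hn⟩
  letI : Algebra A T := Algebra.compHom T (algebraMap A A')
  haveI : IsScalarTower A A' T := IsScalarTower.of_algebraMap_eq fun _ => rfl
  obtain ⟨χ, hχ⟩ := h T J hJ ((ψ.restrictScalars A).comp π) ⟨n, fun x hx => hn _ (by
    rw [← Ideal.map_pow]; exact Ideal.mem_map_of_mem π.toRingHom hx)⟩
  have h0 : RingHom.ker π ≤ RingHom.ker χ.toRingHom := hker.trans (Ideal.map_le_iff_le_comap.2 fun a ha => by
    show χ (algebraMap A B a) = 0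
    rw [AlgHom.commutes, IsScalarTower.algebraMap_apply A A' T, RingHom.mem_ker.1 ha, map_zero])
  let χ' : B' →+* T := RingHom.liftOfSurjective π.toRingHom hπ ⟨χ.toRingHom, h0⟩
  have hχ' : ∀ b, χ' (π b) = χ b := fun b => RingHom.liftOfRightInverse_comp_apply π.toRingHom _ _ ⟨χ.toRingHom, h0⟩ b
  refine ⟨{ χ' with commutes' := fun r => ?_ }, AlgHom.ext fun z => ?_⟩
  · obtain ⟨a, rfl⟩ := hA r
    show χ' (algebraMap A' B' (algebraMap A A' a)) = _
    rw [← IsScalarTower.algebraMap_apply, ← π.commutes, hχ', AlgHom.commutes, ← IsScalarTower.algebraMap_apply]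
  · obtain ⟨b, rfl⟩ := hπ z
    show Ideal.Quotient.mk J (χ' (π b)) = _
    rw [hχ']
    exact AlgHom.congr_fun hχ b

theorem quotient_equiv_of_ker {A B C : Type u} [CommRing A] (J : Ideal A) [CommRing B] [CommRing C] [Algebra A C]
    [Algebra (A ⧸ J) B] (π : C →+* B) (hπ : Function.Surjective π)
    (hπa : ∀ a, π (algebraMap A C a) = algebraMap (A ⧸ J) B (Ideal.Quotient.mk J a))
    (hker : RingHom.ker π = J.map (algebraMap A C)) :
    ∃ e : (A ⧸ J) ⊗[A] C ≃ₐ[A ⧸ J] B, ∀ c, e ((1 : A ⧸ J) ⊗ₜ[A] c) = π c := by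
  letI : Algebra A B := ((algebraMap (A ⧸ J) B).comp (Ideal.Quotient.mk J)).toAlgebra
  haveI : IsScalarTower A (A ⧸ J) B := IsScalarTower.of_algebraMap_eq fun _ => rfl
  let πA : C →ₐ[A] B := { π with commutes' := hπa }
  let Φ : (A ⧸ J) ⊗[A] C →ₐ[A ⧸ J] B :=
    Algebra.TensorProduct.lift (Algebra.ofId (A ⧸ J) B) πA fun _ _ => Commute.all _ _
  have hΦ : ∀ c, Φ ((1 : A ⧸ J) ⊗ₜ[A] c) = π c := fun c => by
    refine (Algebra.TensorProduct.lift_tmul (Algebra.ofId (A ⧸ J) B) πA
      (fun _ _ => Commute.all _ _) (1 : A ⧸ J) c).trans ?_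
    rw [map_one, one_mul]
    rfl
  refine ⟨AlgEquiv.ofBijective Φ ⟨(injective_iff_map_eq_zero _).2 fun z hz => ?_, fun b => ?_⟩, hΦ⟩
  · obtain ⟨c, rfl⟩ : ∃ c : C, (1 : A ⧸ J) ⊗ₜ[A] c = z :=
      TensorProduct.mk_surjective A C (A ⧸ J) Ideal.Quotient.mk_surjective z
    have hc : c ∈ (J • ⊤ : Submodule A C) := by
      rw [Ideal.smul_top_eq_map, Submodule.restrictScalars_mem, ← hker, RingHom.mem_ker, ← hΦ]
      exact hz
    rw [← LinearMap.ker_tensorProductMk C] at hc
    exact hc
  · obtain ⟨c, rfl⟩ := hπ b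
    exact ⟨_, hΦ c⟩

variable {A : Type u} [CommRing A] [IsLocalRing A] [IsNoetherianRing A]

/-- Adic completeness descends to smaller ideals. -/
theorem isAdicComplete_map_le {C : Type u} [CommRing C] [IsLocalRing C] [IsNoetherianRing C]
    [IsAdicComplete (maximalIdeal C) C] [Algebra A C] [IsLocalHom (algebraMap A C)] (J : Ideal A) (hJ : J ≤ maximalIdeal A) :
    IsAdicComplete (J.map (algebraMap A C)) C :=
  AdicLemmas.isAdicComplete_of_le_of_fg ((Ideal.map_mono hJ).trans (IsLocalRing.map_maximalIdeal_le _))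
    (J.map (algebraMap A C)).fg_of_isNoetherianRing C

theorem exists_lift_quotient (J : Ideal A) (hJ : J ≤ maximalIdeal A) [IsLocalRing (A ⧸ J)]
    (B₀ : Type u) [CommRing B₀] [IsLocalRing B₀] [IsNoetherianRing B₀] [IsAdicComplete (maximalIdeal B₀) B₀]
    [Algebra (A ⧸ J) B₀] [IsLocalHom (algebraMap (A ⧸ J) B₀)]
    (hfs : EGA41.IsFormallySmoothAdic (A ⧸ J) (maximalIdeal (A ⧸ J)) B₀ (maximalIdeal B₀)) :
    ∃ (C : Type u) (_ : CommRing C) (_ : IsLocalRing C) (_ : Algebra A C),
      IsNoetherianRing C ∧ IsAdicComplete (maximalIdeal C) C ∧ IsLocalHom (algebraMap A C) ∧ Module.Flat A C ∧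
      ∃ π : C →+* B₀, Function.Surjective π ∧
        (∀ a, π (algebraMap A C a) = algebraMap (A ⧸ J) B₀ (Ideal.Quotient.mk J a)) ∧
        RingHom.ker π = J.map (algebraMap A C) ∧ CAlgX.IsAdicFormallySmooth A C (maximalIdeal C) := by
  classical
  have h0 := adic_of_egaAdic hfs
  haveI : Module.Flat (A ⧸ J) B₀ := AdicFS.flat_of_adic h0
  let m' : Ideal (A ⧸ J) := (maximalIdeal A).map (Ideal.Quotient.mk J)
  have hm' : m' ≤ maximalIdeal (A ⧸ J) := by
    haveI : IsLocalHom (Ideal.Quotient.mk J) := IsLocalHom.of_surjective _ Ideal.Quotient.mk_surjective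
    exact IsLocalRing.map_maximalIdeal_le _
  let I₀ : Ideal B₀ := m'.map (algebraMap (A ⧸ J) B₀)
  have hI₀ : I₀ ≤ maximalIdeal B₀ := (Ideal.map_mono hm').trans (IsLocalRing.map_maximalIdeal_le _)
  letI : Algebra A B₀ := ((algebraMap (A ⧸ J) B₀).comp (Ideal.Quotient.mk J)).toAlgebra
  haveI : IsScalarTower A (A ⧸ J) B₀ := IsScalarTower.of_algebraMap_eq fun _ => rfl
  let F := B₀ ⧸ I₀
  haveI : Nontrivial F := Ideal.Quotient.nontrivial_iff.2 (ne_top_of_le_ne_top (maximalIdeal.isMaximal B₀).ne_top hI₀)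
  haveI : IsLocalRing F := .of_surjective' _ Ideal.Quotient.mk_surjective
  have hmF : (maximalIdeal B₀).map (Ideal.Quotient.mk I₀) = maximalIdeal F :=
    eq_maximalIdeal (Ideal.IsMaximal.map_of_surjective_of_ker_le Ideal.Quotient.mk_surjective
      (by rw [Ideal.mk_ker]; exact hI₀))
  haveI : IsAdicComplete (maximalIdeal F) F := by
    rw [← hmF]
    exact (IsAdicComplete.map_algebraMap_iff (maximalIdeal B₀) F).2
      (FiniteCompleteLib.isAdicComplete_of_finite (maximalIdeal B₀) F)
  let f : ResidueField A →+* F :=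
    Ideal.Quotient.lift (maximalIdeal A) ((Ideal.Quotient.mk I₀).comp (algebraMap A B₀)) fun a ha =>
      Ideal.Quotient.eq_zero_iff_mem.2 (Ideal.mem_map_of_mem _ (Ideal.mem_map_of_mem _ ha))
  letI : Algebra (ResidueField A) F := f.toAlgebra
  have hfF : ∀ a, algebraMap (ResidueField A) F (residue A a) = Ideal.Quotient.mk I₀ (algebraMap A B₀ a) :=
    fun a => rfl
  -- the closed fibre is regular
  letI : Algebra (A ⧸ J) (ResidueField A) :=
    (Ideal.Quotient.lift J (residue A) fun a ha => (residue_eq_zero_iff a).2 (hJ ha)).toAlgebra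
  haveI : IsScalarTower (A ⧸ J) (ResidueField A) F := IsScalarTower.of_algebraMap_eq fun r => by
    obtain ⟨a, rfl⟩ := Ideal.Quotient.mk_surjective r
    rfl
  have hsurjA : Function.Surjective (algebraMap (A ⧸ J) (ResidueField A)) := fun z => by
    obtain ⟨a, rfl⟩ := residue_surjective z
    exact ⟨Ideal.Quotient.mk J a, rfl⟩
  have hF : CAlgX.IsAdicFormallySmooth (ResidueField A) F (maximalIdeal F) := by
    rw [← hmF]
    refine adic_quotient hsurjA (Ideal.Quotient.mkₐ (A ⧸ J) I₀) Ideal.Quotient.mk_surjective ?_ _ h0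
    show RingHom.ker (Ideal.Quotient.mk I₀) ≤ _
    rw [Ideal.mk_ker]
    refine Ideal.map_mono (Ideal.map_le_iff_le_comap.2 fun a ha => ?_)
    exact (residue_eq_zero_iff a).2 ha
  haveI : IsRegularLocalRing F := (S2471.result.1 hF).1
  obtain ⟨C, _, _, _, hnoe, hcomp, hloc, hflat, π, hπ, hπa, hker⟩ := exists_flat_lift_regular (A := A) (B := F)
  haveI := hnoe
  haveI := hcomp
  haveI := hloc
  haveI := hflat
  -- formal smoothness of the lift
  let e : (C ⧸ (maximalIdeal A).map (algebraMap A C)) ≃+* F :=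
    (Ideal.quotEquivOfEq hker.symm).trans (RingHom.quotientKerEquivOfSurjective hπ)
  have he : ∀ c, e (Ideal.Quotient.mk _ c) = π c := fun c => rfl
  have hC : CAlgX.IsAdicFormallySmooth A C (maximalIdeal C) := by
    refine AdicFS.isAdicFormallySmooth_of_flat fun T _ _ J' hJ' ψ ⟨n, hn⟩ => ?_
    letI : Algebra (ResidueField A) T := (inferInstance : Algebra (A ⧸ maximalIdeal A) T)
    let eA : F →ₐ[ResidueField A] T ⧸ J' :=
      { ψ.toRingHom.comp e.symm.toRingHom with
        commutes' := fun r => by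
          obtain ⟨a, rfl⟩ := residue_surjective r
          show ψ (e.symm (algebraMap (ResidueField A) F (residue A a))) = _
          rw [← hπa, ← he, e.symm_apply_apply]
          exact ψ.commutes (Ideal.Quotient.mk (maximalIdeal A) a) }
    obtain ⟨χ, hχ⟩ := hF T J' hJ' eA ⟨n, fun x hx => by
      show ψ (e.symm x) = 0
      refine hn _ ?_
      haveI : IsLocalHom π := IsLocalHom.of_surjective _ hπ
      have h1 : maximalIdeal F ≤ (maximalIdeal C).map π := fun z hz => by
        obtain ⟨c, rfl⟩ := hπ z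
        exact Ideal.mem_map_of_mem π fun hu => hz (hu.map π)
      have h2 := Ideal.mem_map_of_mem e.symm.toRingHom (Ideal.pow_right_mono h1 n hx)
      rw [Ideal.map_pow, Ideal.map_map] at h2
      rwa [show e.symm.toRingHom.comp π = Ideal.Quotient.mk ((maximalIdeal A).map (algebraMap A C)) from
        RingHom.ext fun c => (e.symm_apply_eq).2 (he c).symm] at h2⟩
    refine ⟨{ χ.toRingHom.comp e.toRingHom with
      commutes' := fun r => by
        obtain ⟨a, rfl⟩ := Ideal.Quotient.mk_surjective r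
        show χ (e (Ideal.Quotient.mk _ (algebraMap A C a))) = _
        rw [he, hπa]
        exact χ.commutes (residue A a) }, AlgHom.ext fun z => ?_⟩
    exact (AlgHom.congr_fun hχ (e z)).trans (congrArg ψ (e.symm_apply_apply z))
  -- lift the projection
  let mA : Ideal B₀ := (maximalIdeal A).map (algebraMap A B₀)
  have hmA : mA = I₀ := (Ideal.map_map _ _).symm
  haveI : IsLocalHom (algebraMap A B₀) := by
    refine ((IsLocalRing.local_hom_TFAE (algebraMap A B₀)).out 0 2 rfl rfl).mpr ?_
    exact hmA.le.trans hI₀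
  haveI := isAdicComplete_map_le (C := B₀) (maximalIdeal A) le_rfl
  haveI : IsHausdorff ((maximalIdeal B₀).map (Ideal.Quotient.mk I₀)) (B₀ ⧸ I₀) := by
    rw [hmF]; infer_instance
  let u : C →ₐ[A] B₀ ⧸ I₀ :=
    { π with
      commutes' := fun a => by
        show π (algebraMap A C a) = _
        rw [hπa, hfF]
        rfl }
  obtain ⟨v, -, hv⟩ := FSmoothAdicLib.exists_lift_complete ⊥ (maximalIdeal C) (maximalIdeal B₀)
    (SymGrLib.isFormallySmoothAdic_bot hC) ⟨1, by rw [pow_one, Ideal.map_bot]; exact bot_le⟩ I₀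
    ⟨1, by rw [pow_one]; exact hI₀⟩ u ⟨1, by
      rw [pow_one, hmF, Ideal.map_le_iff_le_comap]
      intro c hc
      haveI : IsLocalHom π := IsLocalHom.of_surjective _ hπ
      exact map_nonunit π c hc⟩
  have hv' : ∀ c, Ideal.Quotient.mk I₀ (v c) = π c := AlgHom.congr_fun hv
  -- the reduction of the lift
  let JC := J.map (algebraMap A C)
  let Cb := C ⧸ JC
  have hJC : JC ≤ maximalIdeal C := (Ideal.map_mono hJ).trans (IsLocalRing.map_maximalIdeal_le _)
  haveI : Nontrivial Cb := Ideal.Quotient.nontrivial_iff.2 (ne_top_of_le_ne_top (maximalIdeal.isMaximal C).ne_top hJC)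
  haveI : IsLocalRing Cb := .of_surjective' _ Ideal.Quotient.mk_surjective
  have hkill : JC ≤ RingHom.ker v.toRingHom := Ideal.map_le_iff_le_comap.2 fun a ha => by
    show v (algebraMap A C a) = 0
    rw [AlgHom.commutes, IsScalarTower.algebraMap_apply A (A ⧸ J) B₀,
      show algebraMap A (A ⧸ J) a = 0 from Ideal.Quotient.eq_zero_iff_mem.2 ha, map_zero]
  let vb : Cb →ₐ[A ⧸ J] B₀ :=
    { Ideal.Quotient.lift JC v.toRingHom hkill with
      commutes' := fun r => by
        obtain ⟨a, rfl⟩ := Ideal.Quotient.mk_surjective r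
        exact v.commutes a }
  have hmk : ∀ (I : Ideal A), (I.map (Ideal.Quotient.mk J)).map (algebraMap (A ⧸ J) Cb) =
      (I.map (algebraMap A C)).map (Ideal.Quotient.mk JC) := fun I => by
    rw [Ideal.map_map, Ideal.map_map]
    rfl
  haveI : IsAdicComplete (m'.map (algebraMap (A ⧸ J) Cb)) Cb := by
    rw [hmk]
    haveI := isAdicComplete_map_le (C := C) (maximalIdeal A) le_rfl
    exact (IsAdicComplete.map_algebraMap_iff ((maximalIdeal A).map (algebraMap A C)) Cb).2
      (FiniteCompleteLib.isAdicComplete_of_finite ((maximalIdeal A).map (algebraMap A C)) Cb)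
  haveI : IsHausdorff (m'.map (algebraMap (A ⧸ J) B₀)) B₀ := by
    rw [show m'.map (algebraMap (A ⧸ J) B₀) = mA from hmA.symm]
    infer_instance
  have hb : Function.Bijective vb := by
    refine bijective_of_flat m' ?_ vb (fun y => ?_) (fun x hx => ?_)
    · rw [hmk]
      haveI : IsLocalHom (Ideal.Quotient.mk JC) := IsLocalHom.of_surjective _ Ideal.Quotient.mk_surjective
      exact (Ideal.map_mono (IsLocalRing.map_maximalIdeal_le _)).trans (IsLocalRing.map_maximalIdeal_le _)
    · obtain ⟨c, hc⟩ := hπ (Ideal.Quotient.mk I₀ y)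
      exact ⟨Ideal.Quotient.mk JC c, Ideal.Quotient.eq.1 ((hv' c).trans hc)⟩
    · obtain ⟨c, rfl⟩ := Ideal.Quotient.mk_surjective x
      have h1 : π c = 0 := by
        rw [← hv', Ideal.Quotient.eq_zero_iff_mem]
        exact hx
      rw [hmk]
      exact Ideal.mem_map_of_mem _ (hker ▸ RingHom.mem_ker.2 h1)
  refine ⟨C, inferInstance, inferInstance, inferInstance, hnoe, hcomp, hloc, hflat, v.toRingHom, fun b => ?_,
    fun a => v.commutes a, le_antisymm (fun c hc => ?_) hkill, hC⟩
  · obtain ⟨x, hx⟩ := hb.2 b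
    obtain ⟨c, rfl⟩ := Ideal.Quotient.mk_surjective x
    exact ⟨c, hx⟩
  · exact Ideal.Quotient.eq_zero_iff_mem.1 (hb.1 ((RingHom.mem_ker.1 hc).trans (map_zero vb).symm))

/-- A formally smooth flat lift is isomorphic to every other flat lift, compatibly with the projections. -/
theorem exists_algEquiv_over (J : Ideal A) (hJ : J ≤ maximalIdeal A) {F : Type u} [CommRing F] [Nontrivial F]
    {C B : Type u} [CommRing C] [IsLocalRing C] [IsNoetherianRing C] [IsAdicComplete (maximalIdeal C) C]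
    [Algebra A C] [IsLocalHom (algebraMap A C)] (hC : CAlgX.IsAdicFormallySmooth A C (maximalIdeal C))
    [CommRing B] [IsLocalRing B] [IsNoetherianRing B] [IsAdicComplete (maximalIdeal B) B]
    [Algebra A B] [IsLocalHom (algebraMap A B)] [Module.Flat A B]
    (π : C →+* F) (hπ : Function.Surjective π) (hker : RingHom.ker π = J.map (algebraMap A C))
    (π' : B →+* F) (hπ' : Function.Surjective π') (hker' : RingHom.ker π' = J.map (algebraMap A B))
    (hcomm : ∀ a, π' (algebraMap A B a) = π (algebraMap A C a)) :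
    ∃ v : C ≃ₐ[A] B, ∀ c, π' (v c) = π c := by
  haveI : IsLocalRing F := .of_surjective' π hπ
  let JB := J.map (algebraMap A B)
  have hJB : JB ≤ maximalIdeal B := (Ideal.map_mono hJ).trans (IsLocalRing.map_maximalIdeal_le _)
  haveI : Nontrivial (B ⧸ JB) :=
    Ideal.Quotient.nontrivial_iff.2 (ne_top_of_le_ne_top (maximalIdeal.isMaximal B).ne_top hJB)
  haveI : IsLocalRing (B ⧸ JB) := .of_surjective' _ Ideal.Quotient.mk_surjective
  have hmB : (maximalIdeal B).map (Ideal.Quotient.mk JB) = maximalIdeal (B ⧸ JB) :=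
    eq_maximalIdeal (Ideal.IsMaximal.map_of_surjective_of_ker_le Ideal.Quotient.mk_surjective
      (by rw [Ideal.mk_ker]; exact hJB))
  haveI : IsHausdorff ((maximalIdeal B).map (Ideal.Quotient.mk JB)) (B ⧸ JB) := by
    rw [hmB]; infer_instance
  let e : (B ⧸ JB) ≃+* F := (Ideal.quotEquivOfEq hker'.symm).trans (RingHom.quotientKerEquivOfSurjective hπ')
  have he : ∀ b, e (Ideal.Quotient.mk JB b) = π' b := fun b => rfl
  let u : C →ₐ[A] B ⧸ JB :=
    { e.symm.toRingHom.comp π with
      commutes' := fun a => by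
        show e.symm (π (algebraMap A C a)) = _
        rw [← hcomm, ← he, e.symm_apply_apply]
        rfl }
  obtain ⟨v, -, hv⟩ := FSmoothAdicLib.exists_lift_complete ⊥ (maximalIdeal C) (maximalIdeal B)
    (SymGrLib.isFormallySmoothAdic_bot hC) ⟨1, by rw [pow_one, Ideal.map_bot]; exact bot_le⟩ JB
    ⟨1, by rw [pow_one]; exact hJB⟩ u ⟨1, by
      rw [pow_one, hmB, Ideal.map_le_iff_le_comap]
      intro c hc
      haveI : IsLocalHom π := IsLocalHom.of_surjective _ hπ
      exact fun h => (map_nonunit π c hc : ¬ IsUnit (π c)) (e.apply_symm_apply (π c) ▸ h.map e)⟩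
  have hv' : ∀ c, π' (v c) = π c := fun c => by
    rw [← he]
    exact (congrArg e (AlgHom.congr_fun hv c)).trans (e.apply_symm_apply _)
  haveI := isAdicComplete_map_le (C := C) J hJ
  haveI := isAdicComplete_map_le (C := B) J hJ
  have hb := bijective_of_flat J ((Ideal.map_mono hJ).trans (IsLocalRing.map_maximalIdeal_le _)) v (fun y => by
      obtain ⟨c, hc⟩ := hπ (π' y)
      refine ⟨c, hker' ▸ ?_⟩
      rw [RingHom.mem_ker, map_sub, hv', hc, sub_self])
    (fun c hc => by
      rw [← hker', RingHom.mem_ker, hv'] at hc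
      rw [← hker]
      exact hc)
  exact ⟨AlgEquiv.ofBijective v hb, hv'⟩

end Groth.Agent.CohenPresLib
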