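import Groth.Agent.CohenRingLib.Basic
import Groth.Agent.ArtFunLib.PS
import Groth.Agent.WildQuotLib.PSReg
import Groth.Agent.MiracleFlatLib.Basic
import Groth.Agent.RegLocal.Basic
import Groth.Agent.RegLocLib.Basic
import Groth.Agent.S5784
import Groth.Agent.S0578

/-!
Flat presentations of local homomorphisms of complete Noetherian local rings by power series rings
over coefficient rings.
-/

set_option autoImplicit false
universe u

open IsLocalRing MvPowerSeries

noncomputable section

namespace Groth.Agent.CohenPresLib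

section Params

variable {Λ : Type u} [CommRing Λ] [IsLocalRing Λ] [IsDomain Λ] {d : ℕ} (p : Fin d → ℕ)

/-- The standard parameters of a power series ring over a coefficient ring. -/
def gens (Λ : Type u) [CommRing Λ] (n : ℕ) : Fin (d + n) → MvPowerSeries (Fin n) Λ :=
  Fin.append (fun j => (p j : MvPowerSeries (Fin n) Λ)) MvPowerSeries.X

theorem span_gens (hm : maximalIdeal Λ = Ideal.span (Set.range fun j => (p j : Λ))) (n : ℕ) :
    Ideal.span (Set.range (gens p Λ n)) = maximalIdeal (MvPowerSeries (Fin n) Λ) := by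
  apply le_antisymm
  · rw [Ideal.span_le]
    rintro _ ⟨i, rfl⟩
    rw [SetLike.mem_coe, mem_maximalIdeal, mem_nonunits_iff, MvPowerSeries.isUnit_iff_constantCoeff,
      ← mem_nonunits_iff, ← mem_maximalIdeal]
    refine Fin.addCases (fun j => ?_) (fun j => ?_) i
    · rw [gens, Fin.append_left, map_natCast, hm]
      exact Ideal.subset_span ⟨j, rfl⟩
    · rw [gens, Fin.append_right, MvPowerSeries.constantCoeff_X]
      exact zero_mem _
  · intro f hf
    have hc : constantCoeff f ∈ maximalIdeal Λ := by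
      rw [mem_maximalIdeal, mem_nonunits_iff] at hf ⊢
      rwa [MvPowerSeries.isUnit_iff_constantCoeff] at hf
    have h1 : f - MvPowerSeries.C (constantCoeff f) ∈ Ideal.span (Set.range (gens p Λ n)) := by
      refine Ideal.span_mono ?_ ((WildQuotLib.ker_constantCoeff_eq Λ n).le (RingHom.mem_ker.mpr (by simp)))
      rintro _ ⟨i, rfl⟩
      exact ⟨Fin.natAdd d i, by rw [gens, Fin.append_right]⟩
    have h2 : (MvPowerSeries.C (σ := Fin n) (R := Λ)) (constantCoeff f) ∈ Ideal.span (Set.range (gens p Λ n)) := by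
      rw [hm] at hc
      have h3 := Ideal.mem_map_of_mem (MvPowerSeries.C (σ := Fin n) (R := Λ)) hc
      rw [Ideal.map_span, ← Set.range_comp] at h3
      refine Ideal.span_mono ?_ h3
      rintro _ ⟨j, rfl⟩
      exact ⟨Fin.castAdd n j, by rw [gens, Fin.append_left, Function.comp_apply, map_natCast]⟩
    simpa using add_mem h1 h2

theorem le_ringKrullDim (hd : ringKrullDim Λ = d) : ∀ n : ℕ,
    ((d + n : ℕ) : WithBot ℕ∞) ≤ ringKrullDim (MvPowerSeries (Fin n) Λ) := by
  intro n
  induction n with
  | zero =>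
    rw [add_zero, ← hd]
    exact ringKrullDim_le_of_surjective MvPowerSeries.constantCoeff
      (fun x => ⟨MvPowerSeries.C x, by simp⟩)
  | succ n ih =>
    rw [ringKrullDim_eq_of_ringEquiv (MvPowerSeries.finSuccEquiv Λ n).toRingEquiv]
    refine le_trans ?_ (ringKrullDim_succ_le_of_surjective PowerSeries.constantCoeff
      (fun x => ⟨PowerSeries.C x, by simp⟩) (r := PowerSeries.X) ?_ PowerSeries.constantCoeff_X)
    · rw [← add_assoc, Nat.cast_add (d + n), Nat.cast_one]
      exact add_le_add ih le_rfl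
    · rw [mem_nonZeroDivisors_iff_ne_zero]; exact PowerSeries.X_ne_zero

variable [IsNoetherianRing Λ]

theorem regular_ps (hm : maximalIdeal Λ = Ideal.span (Set.range fun j => (p j : Λ)))
    (hd : ringKrullDim Λ = d) (n : ℕ) :
    IsRegularLocalRing (MvPowerSeries (Fin n) Λ) ∧
      ringKrullDim (MvPowerSeries (Fin n) Λ) = ((d + n : ℕ) : WithBot ℕ∞) := by
  have h1 : (maximalIdeal (MvPowerSeries (Fin n) Λ)).spanFinrank ≤ d + n := by
    rw [← span_gens p hm n]
    refine (Submodule.spanFinrank_span_le_ncard_of_finite (Set.finite_range _)).trans ?_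
    rw [← Set.image_univ]
    exact (Set.ncard_image_le Set.finite_univ).trans (by simp [Set.ncard_univ])
  have h2 := le_ringKrullDim hd n
  have h3 := ringKrullDim_le_spanFinrank_maximalIdeal (MvPowerSeries (Fin n) Λ)
  have hdim : ringKrullDim (MvPowerSeries (Fin n) Λ) = ((d + n : ℕ) : WithBot ℕ∞) :=
    le_antisymm (h3.trans (by exact_mod_cast h1)) h2
  exact ⟨IsRegularLocalRing.of_spanFinrank_maximalIdeal_le _ (by rw [hdim]; exact_mod_cast h1), hdim⟩

variable {Λ' : Type u} [CommRing Λ'] [IsLocalRing Λ'] [IsDomain Λ'] [IsNoetherianRing Λ']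

theorem flat_and_regular_quotient
    (hm : maximalIdeal Λ = Ideal.span (Set.range fun j => (p j : Λ))) (hd : ringKrullDim Λ = d)
    (hm' : maximalIdeal Λ' = Ideal.span (Set.range fun j => (p j : Λ'))) (hd' : ringKrullDim Λ' = d)
    {n m : ℕ} (τ : MvPowerSeries (Fin n) Λ →+* MvPowerSeries (Fin (n + m)) Λ')
    (hτ : ∀ i, τ (MvPowerSeries.X i) = MvPowerSeries.X (Fin.castAdd m i)) :
    τ.Flat ∧ IsRegularRing (MvPowerSeries (Fin (n + m)) Λ' ⧸
      (maximalIdeal (MvPowerSeries (Fin n) Λ)).map τ) := by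
  classical
  obtain ⟨hR, hRd⟩ := regular_ps p hm hd n
  obtain ⟨hS, hSd⟩ := regular_ps p hm' hd' (n + m)
  let R := MvPowerSeries (Fin n) Λ
  let S := MvPowerSeries (Fin (n + m)) Λ'
  haveI : IsRegularLocalRing R := hR
  haveI : IsRegularLocalRing S := hS
  have hle : d + n ≤ d + (n + m) := by omega
  have hg : ∀ i, τ (gens p Λ n i) = gens p Λ' (n + m) (Fin.castLE hle i) := by
    intro i
    refine Fin.addCases (fun j => ?_) (fun j => ?_) i
    · rw [show Fin.castLE hle (Fin.castAdd n j) = Fin.castAdd (n + m) j from Fin.ext rfl,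
        gens, gens, Fin.append_left, Fin.append_left, map_natCast]
    · rw [show Fin.castLE hle (Fin.natAdd d j) = Fin.natAdd d (Fin.castAdd m j) from Fin.ext rfl,
        gens, gens, Fin.append_right, Fin.append_right, hτ]
  let s : Finset (Fin (d + (n + m))) := Finset.univ.map (Fin.castLEEmb hle)
  have hs : s.card = d + n := by simp [s]
  have hmap : (maximalIdeal R).map τ = Ideal.span (gens p Λ' (n + m) '' (s : Set _)) := by
    rw [← span_gens p hm n, Ideal.map_span, ← Set.range_comp]
    congr 1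
    ext z
    simp [s, hg]
    constructor
    · rintro ⟨y, hy⟩
      exact ⟨_, by simpa using y.isLt, hy⟩
    · rintro ⟨x, hx, h⟩
      exact ⟨⟨x, hx⟩, h⟩
  obtain ⟨hQ, -⟩ := RegLocal.quot_span_image hSd (gens p Λ' (n + m)) (span_gens p hm' _) s
  refine ⟨?_, ?_⟩
  · letI : Algebra R S := τ.toAlgebra
    haveI : IsLocalHom (algebraMap R S) := by
      refine ((IsLocalRing.local_hom_TFAE (algebraMap R S)).out 0 2 rfl rfl).mpr ?_
      rw [RingHom.algebraMap_toAlgebra, hmap, ← span_gens p hm' (n + m)]
      exact Ideal.span_mono (Set.image_subset_range _ _)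
    let rs : List R := List.ofFn (gens p Λ n)
    have hmR : maximalIdeal R = Ideal.ofList rs := by
      rw [← span_gens p hm n, Ideal.ofList]
      congr 1
      ext z
      simp [rs, List.mem_ofFn]
      rfl
    have hwR : RingTheory.Sequence.IsWeaklyRegular R rs :=
      (RegLocal.isRegular_of_generators R hRd _ (span_gens p hm n)).toIsWeaklyRegular
    have hwS : RingTheory.Sequence.IsWeaklyRegular S rs := by
      rw [← RingTheory.Sequence.isWeaklyRegular_map_algebraMap_iff S S rs, List.map_ofFn]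
      have h := (RegLocal.isRegular_of_generators S hSd _ (span_gens p hm' (n + m))).toIsWeaklyRegular
      rw [← List.take_append_drop (d + n) (List.ofFn (gens p Λ' (n + m))),
        RingTheory.Sequence.isWeaklyRegular_append_iff] at h
      have he : List.ofFn (⇑(algebraMap R S) ∘ gens p Λ n) =
          List.take (d + n) (List.ofFn (gens p Λ' (n + m))) := by
        refine List.ext_getElem (by
          rw [List.length_ofFn, List.length_take, List.length_ofFn]; omega) fun i h₁ h₂ => ?_
        simp only [List.getElem_ofFn, List.getElem_take, Function.comp_apply,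
          RingHom.algebraMap_toAlgebra]
        rw [hg]
        rfl
      rw [he]
      exact h.1
    exact RingHom.flat_algebraMap_iff.mpr
      (MiracleFlatLib.flat_of_isWeaklyRegular (d + n) R S rs (List.length_ofFn) hmR hwR hwS)
  · rw [hmap]
    haveI := hQ
    exact RegLocLib.isRegularRing_of_isRegularLocalRing _

end Params

section Presentation

variable {A B : Type u} [CommRing A] [CommRing B] [IsLocalRing A] [IsLocalRing B] [IsNoetherianRing A]
  [IsNoetherianRing B] [IsAdicComplete (maximalIdeal A) A] [IsAdicComplete (maximalIdeal B) B]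
  [Algebra A B] [IsLocalHom (algebraMap A B)]

theorem exists_presentation_of {Λ Λ' : Type u} [CommRing Λ] [CommRing Λ'] [IsLocalRing Λ] [IsLocalRing Λ']
    (hΛ : EGA41.IsCohenRingEGA Λ) (hΛ' : EGA41.IsCohenRingEGA Λ')
    (e : ResidueField Λ ≃+* ResidueField A) (e' : ResidueField Λ' ≃+* ResidueField B)
    {d : ℕ} (p : Fin d → ℕ)
    (hm : maximalIdeal Λ = Ideal.span (Set.range fun j => (p j : Λ))) (hd : ringKrullDim Λ = d)
    (hm' : maximalIdeal Λ' = Ideal.span (Set.range fun j => (p j : Λ'))) (hd' : ringKrullDim Λ' = d) :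
    ∃ (n m : ℕ) (ρ : MvPowerSeries (Fin n) Λ →+* A) (σ : MvPowerSeries (Fin m) Λ' →+* B)
      (τ : MvPowerSeries (Fin n) Λ →+* MvPowerSeries (Fin m) Λ'),
        Function.Surjective ρ ∧ Function.Surjective σ ∧ σ.comp τ = (algebraMap A B).comp ρ ∧
        τ.Flat ∧ IsRegularRing (MvPowerSeries (Fin m) Λ' ⧸
          (maximalIdeal (MvPowerSeries (Fin n) Λ)).map τ) := by
  classical
  haveI := CohenRingLib.isDomain_of_cohen hΛ
  haveI := CohenRingLib.noetherian_of_cohen hΛ
  haveI := CohenRingLib.isDomain_of_cohen hΛ'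
  haveI := CohenRingLib.noetherian_of_cohen hΛ'
  haveI := CohenRingLib.isAdicComplete_of_cohen hΛ
  haveI := CohenRingLib.isAdicComplete_of_cohen hΛ'
  obtain ⟨v, hv, hve⟩ := CohenRingLib.exists_lift_residue hΛ e.toRingHom
  obtain ⟨v', hv', hve'⟩ := CohenRingLib.exists_lift_residue hΛ' e'.toRingHom
  obtain ⟨n, x, hx⟩ := Submodule.fg_iff_exists_fin_generating_family.1
    (IsNoetherian.noetherian (maximalIdeal A))
  obtain ⟨m, y, hy⟩ := Submodule.fg_iff_exists_fin_generating_family.1
    (IsNoetherian.noetherian (maximalIdeal B))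
  have hxm : ∀ i, x i ∈ maximalIdeal A := fun i => hx ▸ Submodule.subset_span ⟨i, rfl⟩
  have hym : ∀ i, y i ∈ maximalIdeal B := fun i => hy ▸ Submodule.subset_span ⟨i, rfl⟩
  let R := MvPowerSeries (Fin n) Λ
  let S := MvPowerSeries (Fin (n + m)) Λ'
  haveI : IsAdicComplete (maximalIdeal R) R := by
    obtain ⟨-, -, -, h⟩ := ArtFunLib.exists_psCRing (k := ResidueField Λ) (Λ := Λ)
      IsLocalRing.residue_surjective n
    exact h
  haveI : IsAdicComplete (maximalIdeal S) S := by
    obtain ⟨-, -, -, h⟩ := ArtFunLib.exists_psCRing (k := ResidueField Λ') (Λ := Λ')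
      IsLocalRing.residue_surjective (n + m)
    exact h
  letI : Algebra Λ A := v.toAlgebra
  letI : Algebra Λ' B := v'.toAlgebra
  have hb : ∀ i, Fin.append (fun i => algebraMap A B (x i)) y i ∈ maximalIdeal B := fun i => by
    refine Fin.addCases (fun j => ?_) (fun j => ?_) i
    · rw [Fin.append_left]
      exact map_nonunit (algebraMap A B) (x j) (hxm j)
    · rw [Fin.append_right]; exact hym j
  obtain ⟨ρ, hρ⟩ := ArtFunLib.ps_exists_lift (Λ := Λ) (maximalIdeal A) x hxm
  obtain ⟨σ, hσ⟩ := ArtFunLib.ps_exists_lift (Λ := Λ') (maximalIdeal B)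
    (Fin.append (fun i => algebraMap A B (x i)) y) hb
  have hρs : Function.Surjective ρ.toRingHom := by
    refine CohenRingLib.surjective_of_residue _ ?_ ?_
    · refine le_antisymm ?_ ?_
      · rw [← span_gens p hm n, Ideal.map_span, Ideal.span_le]
        rintro _ ⟨_, ⟨i, rfl⟩, rfl⟩
        refine Fin.addCases (fun j => ?_) (fun j => ?_) i
        · rw [gens, Fin.append_left, map_natCast, SetLike.mem_coe, ← map_natCast v (p j)]
          exact map_nonunit v _ (hm ▸ Ideal.subset_span ⟨j, rfl⟩)
        · rw [gens, Fin.append_right]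
          exact (hρ j).symm ▸ hxm j
      · rw [← hx, Submodule.span_le]
        rintro _ ⟨i, rfl⟩
        rw [SetLike.mem_coe, ← hρ i]
        exact Ideal.mem_map_of_mem _ (span_gens p hm n ▸ Ideal.subset_span ⟨Fin.natAdd d i, by rw [gens, Fin.append_right]⟩)
    · intro z
      obtain ⟨c, rfl⟩ := e.surjective z
      obtain ⟨a, rfl⟩ := residue_surjective c
      refine ⟨algebraMap Λ R a, ?_⟩
      show residue A (ρ (algebraMap Λ R a)) = _
      rw [ρ.commutes]
      exact hve a
  have hσs : Function.Surjective σ.toRingHom := by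
    refine CohenRingLib.surjective_of_residue _ ?_ ?_
    · refine le_antisymm ?_ ?_
      · rw [← span_gens p hm' (n + m), Ideal.map_span, Ideal.span_le]
        rintro _ ⟨_, ⟨i, rfl⟩, rfl⟩
        refine Fin.addCases (fun j => ?_) (fun j => ?_) i
        · rw [gens, Fin.append_left, map_natCast, SetLike.mem_coe, ← map_natCast v' (p j)]
          exact map_nonunit v' _ (hm' ▸ Ideal.subset_span ⟨j, rfl⟩)
        · rw [gens, Fin.append_right]
          exact (hσ j).symm ▸ hb j
      · rw [← hy, Submodule.span_le]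
        rintro _ ⟨i, rfl⟩
        rw [SetLike.mem_coe, show y i = σ (MvPowerSeries.X (Fin.natAdd n i)) by rw [hσ, Fin.append_right]]
        exact Ideal.mem_map_of_mem _ (span_gens p hm' (n + m) ▸
          Ideal.subset_span ⟨Fin.natAdd d (Fin.natAdd n i), by rw [gens, Fin.append_right]⟩)
    · intro z
      obtain ⟨c, rfl⟩ := e'.surjective z
      obtain ⟨a, rfl⟩ := residue_surjective c
      refine ⟨algebraMap Λ' S a, ?_⟩
      show residue B (σ (algebraMap Λ' S a)) = _
      rw [σ.commutes]
      exact hve' a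
  let J : Ideal S := RingHom.ker σ.toRingHom
  let ε : (S ⧸ J) ≃+* B := RingHom.quotientKerEquivOfSurjective hσs
  have hJm : J ≤ maximalIdeal S := le_maximalIdeal (RingHom.ker_ne_top _)
  haveI : Nontrivial (S ⧸ J) := Ideal.Quotient.nontrivial_iff.2 (RingHom.ker_ne_top _)
  haveI : IsLocalRing (S ⧸ J) := .of_surjective' _ Ideal.Quotient.mk_surjective
  haveI : IsLocalHom (Ideal.Quotient.mk J) := .of_surjective _ Ideal.Quotient.mk_surjective
  have hmaxq : (maximalIdeal S).map (Ideal.Quotient.mk J) = maximalIdeal (S ⧸ J) :=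
    eq_maximalIdeal (Ideal.IsMaximal.map_of_surjective_of_ker_le Ideal.Quotient.mk_surjective
      (by rwa [Ideal.mk_ker]))
  haveI : IsHausdorff ((maximalIdeal S).map (Ideal.Quotient.mk J)) (S ⧸ J) := by
    rw [hmaxq]; infer_instance
  obtain ⟨lam, hlam⟩ := CohenRingLib.exists_lift hΛ J hJm
    ((ε.symm : B →+* S ⧸ J).comp ((algebraMap A B).comp v)) (by
      rw [hmaxq, Ideal.map_le_iff_le_comap]
      intro a ha
      exact map_nonunit (ε.symm : B →+* S ⧸ J) _ (map_nonunit (algebraMap A B) _ (map_nonunit v a ha)))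
  have hlam' : ∀ a, σ (lam a) = algebraMap A B (v a) := fun a => by
    have h1 := congrArg ε (RingHom.congr_fun hlam.2 a)
    exact h1.trans (ε.apply_symm_apply _)
  letI : Algebra Λ S := lam.toAlgebra
  obtain ⟨τ, hτ⟩ := ArtFunLib.ps_exists_lift (Λ := Λ) (maximalIdeal S)
    (fun i : Fin n => (MvPowerSeries.X (Fin.castAdd m i) : S)) fun i =>
    span_gens p hm' (n + m) ▸ Ideal.subset_span ⟨Fin.natAdd d (Fin.castAdd m i), by rw [gens, Fin.append_right]⟩
  obtain ⟨hfl, hreg⟩ := flat_and_regular_quotient p hm hd hm' hd' τ.toRingHom hτ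
  refine ⟨n, n + m, ρ.toRingHom, σ.toRingHom, τ.toRingHom, hρs, hσs, ?_, hfl, hreg⟩
  letI : Algebra Λ B := ((algebraMap A B).comp v).toAlgebra
  let f₁ : R →ₐ[Λ] B :=
    { σ.toRingHom.comp τ.toRingHom with
      commutes' := fun a => by
        show σ (τ (algebraMap Λ R a)) = _
        rw [τ.commutes]
        exact hlam' a }
  let f₂ : R →ₐ[Λ] B :=
    { (algebraMap A B).comp ρ.toRingHom with
      commutes' := fun a => by
        show algebraMap A B (ρ (algebraMap Λ R a)) = _
        rw [ρ.commutes]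
        rfl }
  have h12 : ∀ i, f₁ (MvPowerSeries.X i) = algebraMap A B (x i) := fun i => by
    show σ (τ (MvPowerSeries.X i)) = _
    rw [hτ, hσ, Fin.append_left]
  have heq : f₁ = f₂ := ArtFunLib.ps_ext (maximalIdeal B)
    (fun i => by rw [h12]; exact map_nonunit (algebraMap A B) (x i) (hxm i))
    fun i => by
      rw [h12]
      show _ = algebraMap A B (ρ (MvPowerSeries.X i))
      rw [hρ]
  exact RingHom.ext fun z => DFunLike.congr_fun heq z

theorem exists_presentation :
    ∃ (Λ Λ' : Type u) (_ : CommRing Λ) (_ : CommRing Λ') (_ : IsLocalRing Λ) (n m : ℕ)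
      (ρ : MvPowerSeries (Fin n) Λ →+* A) (σ : MvPowerSeries (Fin m) Λ' →+* B)
      (τ : MvPowerSeries (Fin n) Λ →+* MvPowerSeries (Fin m) Λ'),
      ((CharZero (ResidueField A) ∧ IsField Λ ∧ IsField Λ') ∨
        (¬ CharZero (ResidueField A) ∧ CAlg.IsCohenRing Λ ∧ CAlg.IsCohenRing Λ')) ∧
        Function.Surjective ρ ∧ Function.Surjective σ ∧ σ.comp τ = (algebraMap A B).comp ρ ∧
        τ.Flat ∧ IsRegularRing (MvPowerSeries (Fin m) Λ' ⧸
          (maximalIdeal (MvPowerSeries (Fin n) Λ)).map τ) := by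
  classical
  let k := ResidueField A
  let K := ResidueField B
  by_cases h0 : CharZero k
  · haveI := h0
    haveI : CharZero K := charZero_of_injective_ringHom
      (RingHom.injective (ResidueField.map (algebraMap A B)))
    have hm : ∀ (F : Type u) [Field F], maximalIdeal F =
        Ideal.span (Set.range fun j => ((Fin.elim0 j : ℕ) : F)) := fun F _ => by
      rw [isField_iff_maximalIdeal_eq.1 (Field.toIsField F), Set.range_eq_empty, Ideal.span_empty]
    have hd : ∀ (F : Type u) [Field F], ringKrullDim F = ((0 : ℕ) : WithBot ℕ∞) := fun F _ => by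
      rw [ringKrullDim_eq_zero_of_field]; rfl
    obtain ⟨n, m, ρ, σ, τ, h⟩ := exists_presentation_of (A := A) (B := B) (Λ := k) (Λ' := K)
      (Or.inl ⟨Field.toIsField k, h0⟩) (Or.inl ⟨Field.toIsField K, inferInstance⟩)
      (RingEquiv.ofBijective (residue k) ⟨RingHom.injective _, residue_surjective⟩).symm
      (RingEquiv.ofBijective (residue K) ⟨RingHom.injective _, residue_surjective⟩).symm
      Fin.elim0 (hm k) (hd k) (hm K) (hd K)
    exact ⟨k, K, inferInstance, inferInstance, inferInstance, n, m, ρ, σ, τ,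
      Or.inl ⟨h0, Field.toIsField k, Field.toIsField K⟩, h⟩
  · obtain ⟨q, hq⟩ := CharP.exists k
    have hqp : q.Prime := (CharP.char_is_prime_or_zero k q).resolve_right fun h => by
      subst h
      exact h0 (CharP.charP_to_charZero k)
    haveI := Fact.mk hqp
    haveI : CharP K q := charP_of_injective_ringHom
      (RingHom.injective (ResidueField.map (algebraMap A B))) q
    obtain ⟨Λ, _, _, hΛ, ⟨e⟩⟩ := S0578.result q k
    obtain ⟨Λ', _, _, hΛ', ⟨e'⟩⟩ := S0578.result q K
    have key : ∀ (W : Type u) [CommRing W] [IsLocalRing W] (F : Type u) [Field F] [CharP F q]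
        (_ : CAlg.IsCohenRing W) (_ : ResidueField W ≃+* F),
        maximalIdeal W = Ideal.span (Set.range fun j : Fin 1 => ((![q] j : ℕ) : W)) ∧
          ringKrullDim W = ((1 : ℕ) : WithBot ℕ∞) := by
      intro W _ _ F _ _ hW ε
      obtain ⟨_, _, _, r, hr, hrm⟩ := hW
      haveI : CharP (ResidueField W) q := charP_of_injective_ringHom (f := ε.symm.toRingHom) ε.symm.injective q
      obtain rfl : q = r := CohenRingLib.eq_of_charP_residue hr
        (hrm ▸ Ideal.mem_span_singleton_self _) q
      refine ⟨?_, ?_⟩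
      · rw [hrm]
        congr 1
        ext z
        simp
      · rw [IsPrincipalIdealRing.ringKrullDim_eq_one W (IsDiscreteValuationRing.not_isField W)]
        rfl
    obtain ⟨h1, h2⟩ := key Λ k hΛ e
    obtain ⟨h3, h4⟩ := key Λ' K hΛ' e'
    obtain ⟨n, m, ρ, σ, τ, h⟩ := exists_presentation_of (A := A) (B := B)
      (Or.inr hΛ) (Or.inr hΛ') e e' ![q] h1 h2 h3 h4
    exact ⟨Λ, Λ', inferInstance, inferInstance, inferInstance, n, m, ρ, σ, τ, Or.inr ⟨h0, hΛ, hΛ'⟩, h⟩

end Presentation

end Groth.Agent.CohenPresLib
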