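import Groth.Agent.CohenPresLib.Basic
import Groth.Agent.AdicFS.Fibre
import Groth.Agent.S2471

/-!
Lifting adically formally smooth complete algebras over the residue field.
-/

set_option autoImplicit false
set_option linter.style.haveILetI false
universe u

open IsLocalRing MvPowerSeries TensorProduct

noncomputable section

namespace Groth.Agent.CohenPresLib

/-- Coefficient rings of two fields related by a homomorphism. -/
theorem exists_coefficient_data {k K : Type u} [Field k] [Field K] (f : k →+* K) :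
    ∃ (Λ Λ' : Type u) (_ : CommRing Λ) (_ : CommRing Λ') (_ : IsLocalRing Λ) (_ : IsLocalRing Λ'),
      EGA41.IsCohenRingEGA Λ ∧ EGA41.IsCohenRingEGA Λ' ∧ Nonempty (ResidueField Λ ≃+* k) ∧
      Nonempty (ResidueField Λ' ≃+* K) ∧ ∃ (d : ℕ) (p : Fin d → ℕ),
        maximalIdeal Λ = Ideal.span (Set.range fun j => (p j : Λ)) ∧ ringKrullDim Λ = d ∧
        maximalIdeal Λ' = Ideal.span (Set.range fun j => (p j : Λ')) ∧ ringKrullDim Λ' = d := by
  classical
  by_cases h0 : CharZero k
  · haveI := h0
    haveI : CharZero K := charZero_of_injective_ringHom (f := f) f.injective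
    have hm : ∀ (F : Type u) [Field F], maximalIdeal F =
        Ideal.span (Set.range fun j => ((Fin.elim0 j : ℕ) : F)) := fun F _ => by
      rw [isField_iff_maximalIdeal_eq.1 (Field.toIsField F), Set.range_eq_empty, Ideal.span_empty]
    have hd : ∀ (F : Type u) [Field F], ringKrullDim F = ((0 : ℕ) : WithBot ℕ∞) := fun F _ => by
      rw [ringKrullDim_eq_zero_of_field]; rfl
    exact ⟨k, K, inferInstance, inferInstance, inferInstance, inferInstance,
      Or.inl ⟨Field.toIsField k, h0⟩, Or.inl ⟨Field.toIsField K, inferInstance⟩,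
      ⟨(RingEquiv.ofBijective (residue k) ⟨RingHom.injective _, residue_surjective⟩).symm⟩,
      ⟨(RingEquiv.ofBijective (residue K) ⟨RingHom.injective _, residue_surjective⟩).symm⟩,
      0, Fin.elim0, hm k, hd k, hm K, hd K⟩
  · obtain ⟨q, hq⟩ := CharP.exists k
    have hqp : q.Prime := (CharP.char_is_prime_or_zero k q).resolve_right fun h => by
      subst h
      exact h0 (CharP.charP_to_charZero k)
    haveI := Fact.mk hqp
    haveI : CharP K q := charP_of_injective_ringHom (f := f) f.injective q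
    obtain ⟨Λ, _, _, hΛ, ⟨e⟩⟩ := S0578.result q k
    obtain ⟨Λ', _, _, hΛ', ⟨e'⟩⟩ := S0578.result q K
    have key : ∀ (W : Type u) [CommRing W] [IsLocalRing W] (F : Type u) [Field F] [CharP F q]
        (_ : CAlg.IsCohenRing W) (_ : ResidueField W ≃+* F),
        maximalIdeal W = Ideal.span (Set.range fun j : Fin 1 => ((![q] j : ℕ) : W)) ∧
          ringKrullDim W = ((1 : ℕ) : WithBot ℕ∞) := by
      intro W _ _ F _ _ hW ε
      obtain ⟨_, _, _, r, hr, hrm⟩ := hW
      haveI : CharP (ResidueField W) q := charP_of_injective_ringHom (f := ε.symm.toRingHom) ε.symm.injective q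
      obtain rfl : q = r := CohenRingLib.eq_of_charP_residue hr (hrm ▸ Ideal.mem_span_singleton_self _) q
      refine ⟨?_, ?_⟩
      · rw [hrm]
        congr 1
        ext z
        simp
      · rw [IsPrincipalIdealRing.ringKrullDim_eq_one W (IsDiscreteValuationRing.not_isField W)]
        rfl
    obtain ⟨h1, h2⟩ := key Λ k hΛ e
    obtain ⟨h3, h4⟩ := key Λ' K hΛ' e'
    exact ⟨Λ, Λ', inferInstance, inferInstance, inferInstance, inferInstance, Or.inr hΛ, Or.inr hΛ',
      ⟨e⟩, ⟨e'⟩, 1, ![q], h1, h2, h3, h4⟩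

/-- A surjection from a regular local ring onto a ring of the same dimension is bijective. -/
theorem ker_eq_bot_of_dim {Q B : Type u} [CommRing Q] [IsRegularLocalRing Q] [CommRing B] (f : Q →+* B)
    (hf : Function.Surjective f) {e : ℕ} (hQ : ringKrullDim Q = e) (hB : ringKrullDim B = e) :
    RingHom.ker f = ⊥ := by
  haveI := RegLocal.isDomain (R := Q)
  by_contra h
  obtain ⟨x, hx, hx0⟩ := Submodule.exists_mem_ne_zero_of_ne_bot h
  have h1 := ringKrullDim_succ_le_of_surjective f hf (mem_nonZeroDivisors_iff_ne_zero.2 hx0) (RingHom.mem_ker.1 hx)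
  rw [hQ, hB] at h1
  have h2 : ((e + 1 : ℕ) : WithBot ℕ∞) ≤ (e : ℕ) := by rw [Nat.cast_add, Nat.cast_one]; exact h1
  have h3 : e + 1 ≤ e := by exact_mod_cast h2
  omega

theorem exists_flat_lift {A B : Type u} [CommRing A] [IsLocalRing A] [IsNoetherianRing A]
    [IsAdicComplete (maximalIdeal A) A] [CommRing B] [IsLocalRing B] [IsNoetherianRing B]
    [IsAdicComplete (maximalIdeal B) B] [Algebra (maximalIdeal A).ResidueField B]
    (hB : CAlgX.IsAdicFormallySmooth (maximalIdeal A).ResidueField B (maximalIdeal B)) :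
    ∃ (C : Type u) (_ : CommRing C) (_ : IsLocalRing C) (_ : Algebra A C),
      IsNoetherianRing C ∧ IsAdicComplete (maximalIdeal C) C ∧ IsLocalHom (algebraMap A C) ∧
        CAlgX.IsAdicFormallySmooth A C (maximalIdeal C) ∧
        Nonempty ((maximalIdeal A).Fiber C ≃ₐ[(maximalIdeal A).ResidueField] B) := by
  classical
  let κ := (maximalIdeal A).ResidueField
  haveI hreg : IsRegularLocalRing B := (S2471.result.1 hB).1
  obtain ⟨e, he⟩ := RegLocal.exists_nat_ringKrullDim B
  have hrk : (maximalIdeal B).spanFinrank = e := by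
    have h := (isRegularLocalRing_iff B).1 hreg
    rw [he] at h
    exact_mod_cast h
  obtain ⟨y, hy⟩ : ∃ y : Fin e → B, Ideal.span (Set.range y) = maximalIdeal B := by
    obtain ⟨y, hy⟩ := RegLocal.exists_generators B
    exact ⟨y ∘ finCongr hrk.symm, by rw [(finCongr hrk.symm).surjective.range_comp]; exact hy⟩
  obtain ⟨Λ, Λ', _, _, _, _, hΛ, hΛ', ⟨e1⟩, ⟨e2⟩, d, p, hm, hd, hm', hd'⟩ :=
    exists_coefficient_data ((residue B).comp (algebraMap κ B))
  haveI := CohenRingLib.isDomain_of_cohen hΛ
  haveI := CohenRingLib.noetherian_of_cohen hΛ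
  haveI := CohenRingLib.isDomain_of_cohen hΛ'
  haveI := CohenRingLib.noetherian_of_cohen hΛ'
  haveI := CohenRingLib.isAdicComplete_of_cohen hΛ
  haveI := CohenRingLib.isAdicComplete_of_cohen hΛ'
  -- the base
  let eA : κ ≃+* ResidueField A :=
    (RingEquiv.ofBijective _ (Ideal.bijective_algebraMap_quotient_residueField (maximalIdeal A))).symm
  obtain ⟨v, hv, hve⟩ := CohenRingLib.exists_lift_residue hΛ (e1.trans eA).toRingHom
  obtain ⟨v', hv', hve'⟩ := CohenRingLib.exists_lift_residue hΛ' e2.toRingHom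
  obtain ⟨n, x, hx⟩ := Submodule.fg_iff_exists_fin_generating_family.1
    (IsNoetherian.noetherian (maximalIdeal A))
  have hxm : ∀ i, x i ∈ maximalIdeal A := fun i => hx ▸ Submodule.subset_span ⟨i, rfl⟩
  let R := MvPowerSeries (Fin n) Λ
  let S := MvPowerSeries (Fin (n + e)) Λ'
  haveI : IsAdicComplete (maximalIdeal S) S := by
    obtain ⟨-, -, -, h⟩ := ArtFunLib.exists_psCRing (k := ResidueField Λ') (Λ := Λ')
      IsLocalRing.residue_surjective (n + e)
    exact h
  letI : Algebra Λ A := v.toAlgebra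
  letI : Algebra Λ' B := v'.toAlgebra
  obtain ⟨ρ, hρ⟩ := ArtFunLib.ps_exists_lift (Λ := Λ) (maximalIdeal A) x hxm
  haveI : IsAdicComplete (maximalIdeal R) R := by
    obtain ⟨-, -, -, h⟩ := ArtFunLib.exists_psCRing (k := ResidueField Λ) (Λ := Λ)
      IsLocalRing.residue_surjective n
    exact h
  have hρs : Function.Surjective ρ.toRingHom := by
    refine CohenRingLib.surjective_of_residue _ ?_ ?_
    · refine le_antisymm ?_ ?_
      · rw [← span_gens p hm n, Ideal.map_span, Ideal.span_le]
        rintro _ ⟨_, ⟨i, rfl⟩, rfl⟩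
        refine Fin.addCases (fun j => ?_) (fun j => ?_) i
        · rw [gens, Fin.append_left, map_natCast, SetLike.mem_coe, ← map_natCast v (p j)]
          exact map_nonunit v _ (hm ▸ Ideal.subset_span ⟨j, rfl⟩)
        · rw [gens, Fin.append_right]
          exact (hρ j).symm ▸ hxm j
      · rw [← hx, Submodule.span_le]
        rintro _ ⟨i, rfl⟩
        rw [SetLike.mem_coe, ← hρ i]
        exact Ideal.mem_map_of_mem _ (span_gens p hm n ▸ Ideal.subset_span ⟨Fin.natAdd d i, by rw [gens, Fin.append_right]⟩)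
    · intro z
      obtain ⟨c, rfl⟩ := (e1.trans eA).surjective z
      obtain ⟨a, rfl⟩ := residue_surjective c
      refine ⟨algebraMap Λ R a, ?_⟩
      show residue A (ρ (algebraMap Λ R a)) = _
      rw [ρ.commutes]
      exact hve a
  -- the algebra
  have hb : ∀ i, Fin.append (fun _ : Fin n => (0 : B)) y i ∈ maximalIdeal B := fun i => by
    refine Fin.addCases (fun j => ?_) (fun j => ?_) i
    · rw [Fin.append_left]; exact zero_mem _
    · rw [Fin.append_right]; exact hy ▸ Ideal.subset_span ⟨j, rfl⟩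
  obtain ⟨σ, hσ⟩ := ArtFunLib.ps_exists_lift (Λ := Λ') (maximalIdeal B)
    (Fin.append (fun _ : Fin n => (0 : B)) y) hb
  have hσs : Function.Surjective σ.toRingHom := by
    refine CohenRingLib.surjective_of_residue _ ?_ ?_
    · refine le_antisymm ?_ ?_
      · rw [← span_gens p hm' (n + e), Ideal.map_span, Ideal.span_le]
        rintro _ ⟨_, ⟨i, rfl⟩, rfl⟩
        refine Fin.addCases (fun j => ?_) (fun j => ?_) i
        · rw [gens, Fin.append_left, map_natCast, SetLike.mem_coe, ← map_natCast v' (p j)]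
          exact map_nonunit v' _ (hm' ▸ Ideal.subset_span ⟨j, rfl⟩)
        · rw [gens, Fin.append_right]
          exact (hσ j).symm ▸ hb j
      · rw [← hy, Ideal.span_le]
        rintro _ ⟨i, rfl⟩
        rw [SetLike.mem_coe, show y i = σ (MvPowerSeries.X (Fin.natAdd n i)) by rw [hσ, Fin.append_right]]
        exact Ideal.mem_map_of_mem _ (span_gens p hm' (n + e) ▸
          Ideal.subset_span ⟨Fin.natAdd d (Fin.natAdd n i), by rw [gens, Fin.append_right]⟩)
    · intro z
      obtain ⟨c, rfl⟩ := e2.surjective z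
      obtain ⟨a, rfl⟩ := residue_surjective c
      refine ⟨algebraMap Λ' S a, ?_⟩
      show residue B (σ (algebraMap Λ' S a)) = _
      rw [σ.commutes]
      exact hve' a
  let J : Ideal S := RingHom.ker σ.toRingHom
  let ε : (S ⧸ J) ≃+* B := RingHom.quotientKerEquivOfSurjective hσs
  haveI : Nontrivial (S ⧸ J) := Ideal.Quotient.nontrivial_iff.2 (RingHom.ker_ne_top _)
  haveI : IsLocalRing (S ⧸ J) := .of_surjective' _ Ideal.Quotient.mk_surjective
  have hJm : J ≤ maximalIdeal S := le_maximalIdeal (RingHom.ker_ne_top _)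
  have hmaxq : (maximalIdeal S).map (Ideal.Quotient.mk J) = maximalIdeal (S ⧸ J) :=
    eq_maximalIdeal (Ideal.IsMaximal.map_of_surjective_of_ker_le Ideal.Quotient.mk_surjective
      (by rwa [Ideal.mk_ker]))
  haveI : IsHausdorff ((maximalIdeal S).map (Ideal.Quotient.mk J)) (S ⧸ J) := by
    rw [hmaxq]; infer_instance
  let u : Λ →+* B := (algebraMap κ B).comp ((algebraMap A κ).comp v)
  have hu : ∀ a ∈ maximalIdeal Λ, u a = 0 := fun a ha => by
    show algebraMap κ B (algebraMap A κ (v a)) = 0
    rw [(Ideal.algebraMap_residueField_eq_zero).2 (map_nonunit v a ha), map_zero]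
  obtain ⟨lam, hlam⟩ := CohenRingLib.exists_lift hΛ J hJm ((ε.symm : B →+* S ⧸ J).comp u) (by
    rw [Ideal.map_le_iff_le_comap]
    intro a ha
    rw [Ideal.mem_comap, RingHom.comp_apply, hu a ha, map_zero]
    exact zero_mem _)
  have hlam' : ∀ a, σ (lam a) = u a := fun a =>
    (congrArg ε (RingHom.congr_fun hlam.2 a)).trans (ε.apply_symm_apply _)
  letI : Algebra Λ S := lam.toAlgebra
  obtain ⟨τ, hτ⟩ := ArtFunLib.ps_exists_lift (Λ := Λ) (maximalIdeal S)
    (fun i : Fin n => (MvPowerSeries.X (Fin.castAdd e i) : S)) fun i =>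
    span_gens p hm' (n + e) ▸ Ideal.subset_span ⟨Fin.natAdd d (Fin.castAdd e i), by rw [gens, Fin.append_right]⟩
  obtain ⟨hfl, hregQ⟩ := flat_and_regular_quotient p hm hd hm' hd' τ.toRingHom hτ
  -- the composite `R → B`
  letI : Algebra Λ B := u.toAlgebra
  let f₁ : R →ₐ[Λ] B :=
    { σ.toRingHom.comp τ.toRingHom with
      commutes' := fun a => by
        show σ (τ (algebraMap Λ R a)) = _
        rw [τ.commutes]
        exact hlam' a }
  let f₂ : R →ₐ[Λ] B :=
    { (algebraMap κ B).comp ((algebraMap A κ).comp ρ.toRingHom) with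
      commutes' := fun a => by
        show algebraMap κ B (algebraMap A κ (ρ (algebraMap Λ R a))) = _
        rw [ρ.commutes]
        rfl }
  have h12 : ∀ i, f₁ (MvPowerSeries.X i) = 0 := fun i => by
    show σ (τ (MvPowerSeries.X i)) = _
    rw [hτ, hσ, Fin.append_left]
  have heq : f₁ = f₂ := ArtFunLib.ps_ext (maximalIdeal B) (fun i => by rw [h12]; exact zero_mem _)
    fun i => by
      rw [h12]
      show _ = algebraMap κ B (algebraMap A κ (ρ (MvPowerSeries.X i)))
      rw [hρ, (Ideal.algebraMap_residueField_eq_zero).2 (hxm i), map_zero]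
  have hcomp : ∀ r : R, σ (τ r) = algebraMap κ B (algebraMap A κ (ρ r)) := fun r => DFunLike.congr_fun heq r
  -- the kernel of `S → B`
  let mR : Ideal S := (maximalIdeal R).map τ.toRingHom
  have hle : mR ≤ J := by
    rw [Ideal.map_le_iff_le_comap, ← span_gens p hm n, Ideal.span_le]
    rintro _ ⟨i, rfl⟩
    show σ (τ (gens p Λ n i)) = 0
    rw [hcomp]
    refine Fin.addCases (fun j => ?_) (fun j => ?_) i
    · rw [gens, Fin.append_left, map_natCast, ← map_natCast v (p j),
        (Ideal.algebraMap_residueField_eq_zero).2 (map_nonunit v _ (hm ▸ Ideal.subset_span ⟨j, rfl⟩)), map_zero]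
    · rw [gens, Fin.append_right, hρ, (Ideal.algebraMap_residueField_eq_zero).2 (hxm j), map_zero]
  obtain ⟨hS, hSd⟩ := regular_ps p hm' hd' (n + e)
  haveI : IsRegularLocalRing S := hS
  have hJeq : J = mR := by
    refine le_antisymm ?_ hle
    have hleq : d + n ≤ d + (n + e) := by omega
    let s : Finset (Fin (d + (n + e))) := Finset.univ.map (Fin.castLEEmb hleq)
    have hs : s.card = d + n := by simp [s]
    have hg : ∀ i, τ (gens p Λ n i) = gens p Λ' (n + e) (Fin.castLE hleq i) := fun i => by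
      refine Fin.addCases (fun j => ?_) (fun j => ?_) i
      · rw [show Fin.castLE hleq (Fin.castAdd n j) = Fin.castAdd (n + e) j from Fin.ext rfl,
          gens, gens, Fin.append_left, Fin.append_left, map_natCast]
      · rw [show Fin.castLE hleq (Fin.natAdd d j) = Fin.natAdd d (Fin.castAdd e j) from Fin.ext rfl,
          gens, gens, Fin.append_right, Fin.append_right, hτ]
    have hmR : mR = Ideal.span (gens p Λ' (n + e) '' (s : Set _)) := by
      show (maximalIdeal R).map τ.toRingHom = _
      rw [← span_gens p hm n, Ideal.map_span, ← Set.range_comp]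
      congr 1
      ext z
      simp [s, hg]
      constructor
      · rintro ⟨i, hi⟩
        exact ⟨_, by simpa using i.isLt, hi⟩
      · rintro ⟨i, hi, h⟩
        exact ⟨⟨i, hi⟩, h⟩
    obtain ⟨hQ, hQd⟩ := RegLocal.quot_span_image hSd (gens p Λ' (n + e)) (span_gens p hm' _) s
    rw [← hmR] at hQ hQd
    haveI := hQ
    rw [hs, show d + (n + e) - (d + n) = e by omega] at hQd
    have hk := ker_eq_bot_of_dim (Ideal.Quotient.lift mR σ.toRingHom fun a ha => RingHom.mem_ker.1 (hle ha))
      (fun b => by obtain ⟨s, hs⟩ := hσs b; exact ⟨Ideal.Quotient.mk mR s, hs⟩) hQd he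
    intro z hz
    refine Ideal.Quotient.eq_zero_iff_mem.1 ((Submodule.mem_bot (R := S ⧸ mR)).1 (hk ▸ ?_))
    exact RingHom.mem_ker.2 (RingHom.mem_ker.1 hz)
  -- the lift
  letI : Algebra R S := τ.toRingHom.toAlgebra
  haveI : Module.Flat R S := RingHom.flat_algebraMap_iff.mp hfl
  let K : Ideal R := RingHom.ker ρ.toRingHom
  haveI : Module.Flat (R ⧸ K) (S ⧸ K.map (algebraMap R S)) := SmoothingLib.flat_quotient K
  let C := S ⧸ K.map (algebraMap R S)
  have hKJ : K.map (algebraMap R S) ≤ J := Ideal.map_le_iff_le_comap.2 fun r hr => by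
    show σ (τ r) = 0
    rw [hcomp, show ρ r = 0 from RingHom.mem_ker.1 hr, map_zero, map_zero]
  haveI : Nontrivial C := Ideal.Quotient.nontrivial_iff.2 (ne_top_of_le_ne_top (RingHom.ker_ne_top _) hKJ)
  haveI : IsLocalRing C := .of_surjective' _ Ideal.Quotient.mk_surjective
  have hmC : (maximalIdeal S).map (Ideal.Quotient.mk (K.map (algebraMap R S))) = maximalIdeal C := by
    refine eq_maximalIdeal (Ideal.IsMaximal.map_of_surjective_of_ker_le Ideal.Quotient.mk_surjective ?_)
    rw [Ideal.mk_ker]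
    exact hKJ.trans hJm
  haveI : IsAdicComplete (maximalIdeal C) C := by
    rw [← hmC]
    exact (IsAdicComplete.map_algebraMap_iff (maximalIdeal S) C).2
      (FiniteCompleteLib.isAdicComplete_of_finite (maximalIdeal S) C)
  let ee : (R ⧸ K) ≃+* A := RingHom.quotientKerEquivOfSurjective hρs
  letI : Algebra A C := ((algebraMap (R ⧸ K) C).comp ee.symm.toRingHom).toAlgebra
  haveI : Module.Flat A C :=
    RingHom.flat_algebraMap_iff.mp (RingHom.Flat.comp (f := ee.symm.toRingHom) (g := algebraMap (R ⧸ K) C)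
      (RingHom.Flat.of_bijective ee.symm.bijective) (RingHom.flat_algebraMap_iff.mpr inferInstance))
  have halgC : ∀ r : R, algebraMap A C (ρ r) = Ideal.Quotient.mk _ (τ r) := fun r => by
    show algebraMap (R ⧸ K) C (ee.symm (ρ r)) = _
    rw [show ee.symm (ρ r) = Ideal.Quotient.mk K r from ee.symm_apply_eq.2 rfl]
    rfl
  let σb : C →+* B := Ideal.Quotient.lift _ σ.toRingHom fun a ha => RingHom.mem_ker.1 (hKJ ha)
  letI : Algebra A B := ((algebraMap κ B).comp (algebraMap A κ)).toAlgebra
  haveI : IsScalarTower A κ B := IsScalarTower.of_algebraMap_eq fun _ => rfl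
  let πb : C →ₐ[A] B :=
    { σb with
      commutes' := fun a => by
        obtain ⟨r, rfl⟩ := hρs a
        show σb (algebraMap A C (ρ r)) = algebraMap κ B (algebraMap A κ (ρ r))
        rw [halgC, ← hcomp]
        rfl }
  haveI hloc : IsLocalHom (algebraMap A C) := by
    refine ((IsLocalRing.local_hom_TFAE (algebraMap A C)).out 0 2 rfl rfl).mpr ?_
    rw [Ideal.map_le_iff_le_comap]
    intro a ha
    rw [Ideal.mem_comap, mem_maximalIdeal]
    intro hu'
    have h1 : IsUnit (πb (algebraMap A C a)) := hu'.map πb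
    rw [AlgHom.commutes] at h1
    exact not_isUnit_zero (M₀ := B) (by
      rwa [IsScalarTower.algebraMap_apply A κ B, (Ideal.algebraMap_residueField_eq_zero).2 ha, map_zero] at h1)
  let Φ : (maximalIdeal A).Fiber C →ₐ[κ] B :=
    Algebra.TensorProduct.lift (Algebra.ofId κ B) πb fun _ _ => Commute.all _ _
  have hΦ : ∀ c, Φ (Algebra.TensorProduct.includeRight c) = πb c := fun c => by simp [Φ]
  have hbij : Function.Bijective Φ := by
    refine ⟨(injective_iff_map_eq_zero _).2 fun z hz => ?_, fun b => ?_⟩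
    · obtain ⟨c, rfl⟩ := AdicFS.fibre_includeRight_surjective A C z
      rw [hΦ] at hz
      obtain ⟨s, rfl⟩ := Ideal.Quotient.mk_surjective c
      have hs : s ∈ mR := hJeq ▸ RingHom.mem_ker.2 hz
      have hle' : mR.map (Ideal.Quotient.mk (K.map (algebraMap R S))) ≤
          RingHom.ker (Algebra.TensorProduct.includeRight : C →ₐ[A] (maximalIdeal A).Fiber C).toRingHom := by
        rw [Ideal.map_map, Ideal.map_le_iff_le_comap]
        intro r hr
        rw [Ideal.mem_comap, RingHom.mem_ker, RingHom.comp_apply]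
        show Algebra.TensorProduct.includeRight (Ideal.Quotient.mk _ (τ r)) = 0
        rw [← halgC, AlgHom.commutes, IsScalarTower.algebraMap_apply A κ ((maximalIdeal A).Fiber C),
          (Ideal.algebraMap_residueField_eq_zero).2 ?_, map_zero]
        by_contra hnot
        obtain ⟨w, hw⟩ := hρs ((notMem_maximalIdeal.1 hnot).unit⁻¹ : Aˣ)
        have h1 : ρ (r * w - 1) = 0 := by
          rw [map_sub, map_mul, map_one, show ρ w = _ from hw, IsUnit.mul_val_inv, sub_self]
        have h2 : r * w - 1 ∈ maximalIdeal R := le_maximalIdeal (RingHom.ker_ne_top ρ.toRingHom) h1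
        have h3 := sub_mem (Ideal.mul_mem_right w _ hr) h2
        rw [sub_sub_cancel] at h3
        exact (maximalIdeal.isMaximal R).ne_top ((Ideal.eq_top_iff_one _).2 h3)
      exact RingHom.mem_ker.1 (hle' (Ideal.mem_map_of_mem _ hs))
    · obtain ⟨s, hs⟩ := hσs b
      exact ⟨Algebra.TensorProduct.includeRight (Ideal.Quotient.mk _ s), (hΦ _).trans hs⟩
  let eF := AlgEquiv.ofBijective Φ hbij
  refine ⟨C, inferInstance, inferInstance, inferInstance, inferInstance, inferInstance, hloc, ?_, ⟨eF⟩⟩
  refine AdicFS.adic_of_fibre fun k' _ _ hfin => ?_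
  haveI := SymGrLib.isGeometricallyRegular_of_isAdicFormallySmooth hB k' hfin
  exact IsRegularRing.of_ringEquiv (R := k' ⊗[κ] B)
    (Algebra.TensorProduct.congr (AlgEquiv.refl : k' ≃ₐ[κ] k') eF.symm).toRingEquiv

end Groth.Agent.CohenPresLib
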