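import Groth.Agent.CohenPresLib.Basic
import Groth.Agent.AdicFS.Fibre
import Groth.Agent.S2471
import Groth.Agent.CohenPresLib.Lift

/-!
Flat lifts of complete regular local algebras over the residue field.
-/

set_option autoImplicit false
set_option linter.style.haveILetI false
universe u

open IsLocalRing MvPowerSeries TensorProduct

noncomputable section

namespace Groth.Agent.CohenPresLib

theorem algebraMap_residueField_of_mem {A : Type u} [CommRing A] [IsLocalRing A] {a : A}
    (ha : a ∈ maximalIdeal A) : algebraMap A (ResidueField A) a = 0 := (residue_eq_zero_iff a).2 ha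

theorem exists_flat_lift_regular_complete {A B : Type u} [CommRing A] [IsLocalRing A] [IsNoetherianRing A]
    [IsAdicComplete (maximalIdeal A) A] [CommRing B] [IsRegularLocalRing B]
    [IsAdicComplete (maximalIdeal B) B] [Algebra (ResidueField A) B] :
    ∃ (C : Type u) (_ : CommRing C) (_ : IsLocalRing C) (_ : Algebra A C),
      IsNoetherianRing C ∧ IsAdicComplete (maximalIdeal C) C ∧ IsLocalHom (algebraMap A C) ∧
        Module.Flat A C ∧ ∃ π : C →+* B, Function.Surjective π ∧
          (∀ a, π (algebraMap A C a) = algebraMap (ResidueField A) B (residue A a)) ∧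
          RingHom.ker π = (maximalIdeal A).map (algebraMap A C) := by
  classical
  let κ := ResidueField A
  have hreg : IsRegularLocalRing B := inferInstance
  obtain ⟨e, he⟩ := RegLocal.exists_nat_ringKrullDim B
  have hrk : (maximalIdeal B).spanFinrank = e := by
    have h := (isRegularLocalRing_iff B).1 hreg
    rw [he] at h
    exact_mod_cast h
  obtain ⟨y, hy⟩ : ∃ y : Fin e → B, Ideal.span (Set.range y) = maximalIdeal B := by
    obtain ⟨y, hy⟩ := RegLocal.exists_generators B
    exact ⟨y ∘ finCongr hrk.symm, by rw [(finCongr hrk.symm).surjective.range_comp]; exact hy⟩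
  obtain ⟨Λ, Λ', _, _, _, _, hΛ, hΛ', ⟨e1⟩, ⟨e2⟩, d, p, hm, hd, hm', hd'⟩ :=
    exists_coefficient_data ((residue B).comp (algebraMap κ B))
  haveI := CohenRingLib.isDomain_of_cohen hΛ
  haveI := CohenRingLib.noetherian_of_cohen hΛ
  haveI := CohenRingLib.isDomain_of_cohen hΛ'
  haveI := CohenRingLib.noetherian_of_cohen hΛ'
  haveI := CohenRingLib.isAdicComplete_of_cohen hΛ
  haveI := CohenRingLib.isAdicComplete_of_cohen hΛ'
  -- the base
  let eA : κ ≃+* ResidueField A := RingEquiv.refl _
  obtain ⟨v, hv, hve⟩ := CohenRingLib.exists_lift_residue hΛ (e1.trans eA).toRingHom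
  obtain ⟨v', hv', hve'⟩ := CohenRingLib.exists_lift_residue hΛ' e2.toRingHom
  obtain ⟨n, x, hx⟩ := Submodule.fg_iff_exists_fin_generating_family.1
    (IsNoetherian.noetherian (maximalIdeal A))
  have hxm : ∀ i, x i ∈ maximalIdeal A := fun i => hx ▸ Submodule.subset_span ⟨i, rfl⟩
  let R := MvPowerSeries (Fin n) Λ
  let S := MvPowerSeries (Fin (n + e)) Λ'
  haveI : IsAdicComplete (maximalIdeal S) S := by
    obtain ⟨-, -, -, h⟩ := ArtFunLib.exists_psCRing (k := ResidueField Λ') (Λ := Λ')
      IsLocalRing.residue_surjective (n + e)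
    exact h
  letI : Algebra Λ A := v.toAlgebra
  letI : Algebra Λ' B := v'.toAlgebra
  obtain ⟨ρ, hρ⟩ := ArtFunLib.ps_exists_lift (Λ := Λ) (maximalIdeal A) x hxm
  haveI : IsAdicComplete (maximalIdeal R) R := by
    obtain ⟨-, -, -, h⟩ := ArtFunLib.exists_psCRing (k := ResidueField Λ) (Λ := Λ)
      IsLocalRing.residue_surjective n
    exact h
  have hρs : Function.Surjective ρ.toRingHom := by
    refine CohenRingLib.surjective_of_residue _ ?_ ?_
    · refine le_antisymm ?_ ?_
      · rw [← span_gens p hm n, Ideal.map_span, Ideal.span_le]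
        rintro _ ⟨_, ⟨i, rfl⟩, rfl⟩
        refine Fin.addCases (fun j => ?_) (fun j => ?_) i
        · rw [gens, Fin.append_left, map_natCast, SetLike.mem_coe, ← map_natCast v (p j)]
          exact map_nonunit v _ (hm ▸ Ideal.subset_span ⟨j, rfl⟩)
        · rw [gens, Fin.append_right]
          exact (hρ j).symm ▸ hxm j
      · rw [← hx, Submodule.span_le]
        rintro _ ⟨i, rfl⟩
        rw [SetLike.mem_coe, ← hρ i]
        exact Ideal.mem_map_of_mem _ (span_gens p hm n ▸ Ideal.subset_span ⟨Fin.natAdd d i, by rw [gens, Fin.append_right]⟩)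
    · intro z
      obtain ⟨c, rfl⟩ := (e1.trans eA).surjective z
      obtain ⟨a, rfl⟩ := residue_surjective c
      refine ⟨algebraMap Λ R a, ?_⟩
      show residue A (ρ (algebraMap Λ R a)) = _
      rw [ρ.commutes]
      exact hve a
  -- the algebra
  have hb : ∀ i, Fin.append (fun _ : Fin n => (0 : B)) y i ∈ maximalIdeal B := fun i => by
    refine Fin.addCases (fun j => ?_) (fun j => ?_) i
    · rw [Fin.append_left]; exact zero_mem _
    · rw [Fin.append_right]; exact hy ▸ Ideal.subset_span ⟨j, rfl⟩
  obtain ⟨σ, hσ⟩ := ArtFunLib.ps_exists_lift (Λ := Λ') (maximalIdeal B)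
    (Fin.append (fun _ : Fin n => (0 : B)) y) hb
  have hσs : Function.Surjective σ.toRingHom := by
    refine CohenRingLib.surjective_of_residue _ ?_ ?_
    · refine le_antisymm ?_ ?_
      · rw [← span_gens p hm' (n + e), Ideal.map_span, Ideal.span_le]
        rintro _ ⟨_, ⟨i, rfl⟩, rfl⟩
        refine Fin.addCases (fun j => ?_) (fun j => ?_) i
        · rw [gens, Fin.append_left, map_natCast, SetLike.mem_coe, ← map_natCast v' (p j)]
          exact map_nonunit v' _ (hm' ▸ Ideal.subset_span ⟨j, rfl⟩)
        · rw [gens, Fin.append_right]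
          exact (hσ j).symm ▸ hb j
      · rw [← hy, Ideal.span_le]
        rintro _ ⟨i, rfl⟩
        rw [SetLike.mem_coe, show y i = σ (MvPowerSeries.X (Fin.natAdd n i)) by rw [hσ, Fin.append_right]]
        exact Ideal.mem_map_of_mem _ (span_gens p hm' (n + e) ▸
          Ideal.subset_span ⟨Fin.natAdd d (Fin.natAdd n i), by rw [gens, Fin.append_right]⟩)
    · intro z
      obtain ⟨c, rfl⟩ := e2.surjective z
      obtain ⟨a, rfl⟩ := residue_surjective c
      refine ⟨algebraMap Λ' S a, ?_⟩
      show residue B (σ (algebraMap Λ' S a)) = _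
      rw [σ.commutes]
      exact hve' a
  let J : Ideal S := RingHom.ker σ.toRingHom
  let ε : (S ⧸ J) ≃+* B := RingHom.quotientKerEquivOfSurjective hσs
  haveI : Nontrivial (S ⧸ J) := Ideal.Quotient.nontrivial_iff.2 (RingHom.ker_ne_top _)
  haveI : IsLocalRing (S ⧸ J) := .of_surjective' _ Ideal.Quotient.mk_surjective
  have hJm : J ≤ maximalIdeal S := le_maximalIdeal (RingHom.ker_ne_top _)
  have hmaxq : (maximalIdeal S).map (Ideal.Quotient.mk J) = maximalIdeal (S ⧸ J) :=
    eq_maximalIdeal (Ideal.IsMaximal.map_of_surjective_of_ker_le Ideal.Quotient.mk_surjective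
      (by rwa [Ideal.mk_ker]))
  haveI : IsHausdorff ((maximalIdeal S).map (Ideal.Quotient.mk J)) (S ⧸ J) := by
    rw [hmaxq]; infer_instance
  let u : Λ →+* B := (algebraMap κ B).comp ((algebraMap A κ).comp v)
  have hu : ∀ a ∈ maximalIdeal Λ, u a = 0 := fun a ha => by
    show algebraMap κ B (algebraMap A κ (v a)) = 0
    rw [algebraMap_residueField_of_mem  (map_nonunit v a ha), map_zero]
  obtain ⟨lam, hlam⟩ := CohenRingLib.exists_lift hΛ J hJm ((ε.symm : B →+* S ⧸ J).comp u) (by
    rw [Ideal.map_le_iff_le_comap]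
    intro a ha
    rw [Ideal.mem_comap, RingHom.comp_apply, hu a ha, map_zero]
    exact zero_mem _)
  have hlam' : ∀ a, σ (lam a) = u a := fun a =>
    (congrArg ε (RingHom.congr_fun hlam.2 a)).trans (ε.apply_symm_apply _)
  letI : Algebra Λ S := lam.toAlgebra
  obtain ⟨τ, hτ⟩ := ArtFunLib.ps_exists_lift (Λ := Λ) (maximalIdeal S)
    (fun i : Fin n => (MvPowerSeries.X (Fin.castAdd e i) : S)) fun i =>
    span_gens p hm' (n + e) ▸ Ideal.subset_span ⟨Fin.natAdd d (Fin.castAdd e i), by rw [gens, Fin.append_right]⟩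
  obtain ⟨hfl, hregQ⟩ := flat_and_regular_quotient p hm hd hm' hd' τ.toRingHom hτ
  -- the composite `R → B`
  letI : Algebra Λ B := u.toAlgebra
  let f₁ : R →ₐ[Λ] B :=
    { σ.toRingHom.comp τ.toRingHom with
      commutes' := fun a => by
        show σ (τ (algebraMap Λ R a)) = _
        rw [τ.commutes]
        exact hlam' a }
  let f₂ : R →ₐ[Λ] B :=
    { (algebraMap κ B).comp ((algebraMap A κ).comp ρ.toRingHom) with
      commutes' := fun a => by
        show algebraMap κ B (algebraMap A κ (ρ (algebraMap Λ R a))) = _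
        rw [ρ.commutes]
        rfl }
  have h12 : ∀ i, f₁ (MvPowerSeries.X i) = 0 := fun i => by
    show σ (τ (MvPowerSeries.X i)) = _
    rw [hτ, hσ, Fin.append_left]
  have heq : f₁ = f₂ := ArtFunLib.ps_ext (maximalIdeal B) (fun i => by rw [h12]; exact zero_mem _)
    fun i => by
      rw [h12]
      show _ = algebraMap κ B (algebraMap A κ (ρ (MvPowerSeries.X i)))
      rw [hρ, algebraMap_residueField_of_mem  (hxm i), map_zero]
  have hcomp : ∀ r : R, σ (τ r) = algebraMap κ B (algebraMap A κ (ρ r)) := fun r => DFunLike.congr_fun heq r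
  -- the kernel of `S → B`
  let mR : Ideal S := (maximalIdeal R).map τ.toRingHom
  have hle : mR ≤ J := by
    rw [Ideal.map_le_iff_le_comap, ← span_gens p hm n, Ideal.span_le]
    rintro _ ⟨i, rfl⟩
    show σ (τ (gens p Λ n i)) = 0
    rw [hcomp]
    refine Fin.addCases (fun j => ?_) (fun j => ?_) i
    · rw [gens, Fin.append_left, map_natCast, ← map_natCast v (p j),
        algebraMap_residueField_of_mem  (map_nonunit v _ (hm ▸ Ideal.subset_span ⟨j, rfl⟩)), map_zero]
    · rw [gens, Fin.append_right, hρ, algebraMap_residueField_of_mem  (hxm j), map_zero]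
  obtain ⟨hS, hSd⟩ := regular_ps p hm' hd' (n + e)
  haveI : IsRegularLocalRing S := hS
  have hJeq : J = mR := by
    refine le_antisymm ?_ hle
    have hleq : d + n ≤ d + (n + e) := by omega
    let s : Finset (Fin (d + (n + e))) := Finset.univ.map (Fin.castLEEmb hleq)
    have hs : s.card = d + n := by simp [s]
    have hg : ∀ i, τ (gens p Λ n i) = gens p Λ' (n + e) (Fin.castLE hleq i) := fun i => by
      refine Fin.addCases (fun j => ?_) (fun j => ?_) i
      · rw [show Fin.castLE hleq (Fin.castAdd n j) = Fin.castAdd (n + e) j from Fin.ext rfl,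
          gens, gens, Fin.append_left, Fin.append_left, map_natCast]
      · rw [show Fin.castLE hleq (Fin.natAdd d j) = Fin.natAdd d (Fin.castAdd e j) from Fin.ext rfl,
          gens, gens, Fin.append_right, Fin.append_right, hτ]
    have hmR : mR = Ideal.span (gens p Λ' (n + e) '' (s : Set _)) := by
      show (maximalIdeal R).map τ.toRingHom = _
      rw [← span_gens p hm n, Ideal.map_span, ← Set.range_comp]
      congr 1
      ext z
      simp [s, hg]
      constructor
      · rintro ⟨i, hi⟩
        exact ⟨_, by simpa using i.isLt, hi⟩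
      · rintro ⟨i, hi, h⟩
        exact ⟨⟨i, hi⟩, h⟩
    obtain ⟨hQ, hQd⟩ := RegLocal.quot_span_image hSd (gens p Λ' (n + e)) (span_gens p hm' _) s
    rw [← hmR] at hQ hQd
    haveI := hQ
    rw [hs, show d + (n + e) - (d + n) = e by omega] at hQd
    have hk := ker_eq_bot_of_dim (Ideal.Quotient.lift mR σ.toRingHom fun a ha => RingHom.mem_ker.1 (hle ha))
      (fun b => by obtain ⟨s, hs⟩ := hσs b; exact ⟨Ideal.Quotient.mk mR s, hs⟩) hQd he
    intro z hz
    refine Ideal.Quotient.eq_zero_iff_mem.1 ((Submodule.mem_bot (R := S ⧸ mR)).1 (hk ▸ ?_))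
    exact RingHom.mem_ker.2 (RingHom.mem_ker.1 hz)
  -- the lift
  letI : Algebra R S := τ.toRingHom.toAlgebra
  haveI : Module.Flat R S := RingHom.flat_algebraMap_iff.mp hfl
  let K : Ideal R := RingHom.ker ρ.toRingHom
  haveI : Module.Flat (R ⧸ K) (S ⧸ K.map (algebraMap R S)) := SmoothingLib.flat_quotient K
  let C := S ⧸ K.map (algebraMap R S)
  have hKJ : K.map (algebraMap R S) ≤ J := Ideal.map_le_iff_le_comap.2 fun r hr => by
    show σ (τ r) = 0
    rw [hcomp, show ρ r = 0 from RingHom.mem_ker.1 hr, map_zero, map_zero]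
  haveI : Nontrivial C := Ideal.Quotient.nontrivial_iff.2 (ne_top_of_le_ne_top (RingHom.ker_ne_top _) hKJ)
  haveI : IsLocalRing C := .of_surjective' _ Ideal.Quotient.mk_surjective
  have hmC : (maximalIdeal S).map (Ideal.Quotient.mk (K.map (algebraMap R S))) = maximalIdeal C := by
    refine eq_maximalIdeal (Ideal.IsMaximal.map_of_surjective_of_ker_le Ideal.Quotient.mk_surjective ?_)
    rw [Ideal.mk_ker]
    exact hKJ.trans hJm
  haveI : IsAdicComplete (maximalIdeal C) C := by
    rw [← hmC]
    exact (IsAdicComplete.map_algebraMap_iff (maximalIdeal S) C).2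
      (FiniteCompleteLib.isAdicComplete_of_finite (maximalIdeal S) C)
  let ee : (R ⧸ K) ≃+* A := RingHom.quotientKerEquivOfSurjective hρs
  letI : Algebra A C := ((algebraMap (R ⧸ K) C).comp ee.symm.toRingHom).toAlgebra
  haveI : Module.Flat A C :=
    RingHom.flat_algebraMap_iff.mp (RingHom.Flat.comp (f := ee.symm.toRingHom) (g := algebraMap (R ⧸ K) C)
      (RingHom.Flat.of_bijective ee.symm.bijective) (RingHom.flat_algebraMap_iff.mpr inferInstance))
  have halgC : ∀ r : R, algebraMap A C (ρ r) = Ideal.Quotient.mk _ (τ r) := fun r => by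
    show algebraMap (R ⧸ K) C (ee.symm (ρ r)) = _
    rw [show ee.symm (ρ r) = Ideal.Quotient.mk K r from ee.symm_apply_eq.2 rfl]
    rfl
  let σb : C →+* B := Ideal.Quotient.lift _ σ.toRingHom fun a ha => RingHom.mem_ker.1 (hKJ ha)
  letI : Algebra A B := ((algebraMap κ B).comp (algebraMap A κ)).toAlgebra
  haveI : IsScalarTower A κ B := IsScalarTower.of_algebraMap_eq fun _ => rfl
  let πb : C →ₐ[A] B :=
    { σb with
      commutes' := fun a => by
        obtain ⟨r, rfl⟩ := hρs a
        show σb (algebraMap A C (ρ r)) = algebraMap κ B (algebraMap A κ (ρ r))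
        rw [halgC, ← hcomp]
        rfl }
  haveI hloc : IsLocalHom (algebraMap A C) := by
    refine ((IsLocalRing.local_hom_TFAE (algebraMap A C)).out 0 2 rfl rfl).mpr ?_
    rw [Ideal.map_le_iff_le_comap]
    intro a ha
    rw [Ideal.mem_comap, mem_maximalIdeal]
    intro hu'
    have h1 : IsUnit (πb (algebraMap A C a)) := hu'.map πb
    rw [AlgHom.commutes] at h1
    exact not_isUnit_zero (M₀ := B) (by
      rwa [IsScalarTower.algebraMap_apply A κ B, algebraMap_residueField_of_mem  ha, map_zero] at h1)
  refine ⟨C, inferInstance, inferInstance, inferInstance, inferInstance, inferInstance, hloc, inferInstance,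
    σb, fun b => ?_, fun a => πb.commutes a, le_antisymm (fun c hc => ?_) ?_⟩
  · obtain ⟨s, hs⟩ := hσs b
    exact ⟨Ideal.Quotient.mk _ s, hs⟩
  · obtain ⟨s, rfl⟩ := Ideal.Quotient.mk_surjective c
    have hs : s ∈ mR := hJeq ▸ RingHom.mem_ker.2 (RingHom.mem_ker.1 hc)
    have hle' : mR.map (Ideal.Quotient.mk (K.map (algebraMap R S))) ≤ (maximalIdeal A).map (algebraMap A C) := by
      rw [Ideal.map_map, Ideal.map_le_iff_le_comap]
      intro r hr
      rw [Ideal.mem_comap, RingHom.comp_apply]
      show Ideal.Quotient.mk _ (τ r) ∈ (maximalIdeal A).map (algebraMap A C)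
      rw [← halgC]
      refine Ideal.mem_map_of_mem _ ?_
      by_contra hnot
      obtain ⟨w, hw⟩ := hρs ((notMem_maximalIdeal.1 hnot).unit⁻¹ : Aˣ)
      have h1 : ρ (r * w - 1) = 0 := by
        rw [map_sub, map_mul, map_one, show ρ w = _ from hw, IsUnit.mul_val_inv, sub_self]
      have h2 : r * w - 1 ∈ maximalIdeal R := le_maximalIdeal (RingHom.ker_ne_top ρ.toRingHom) h1
      have h3 := sub_mem (Ideal.mul_mem_right w _ hr) h2
      rw [sub_sub_cancel] at h3
      exact (maximalIdeal.isMaximal R).ne_top ((Ideal.eq_top_iff_one _).2 h3)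
    exact hle' (Ideal.mem_map_of_mem _ hs)
  · rw [Ideal.map_le_iff_le_comap]
    intro a ha
    rw [Ideal.mem_comap, RingHom.mem_ker]
    exact (πb.commutes a).trans (by
      rw [IsScalarTower.algebraMap_apply A κ B,
        show algebraMap A κ a = 0 from algebraMap_residueField_of_mem ha, map_zero])

theorem exists_flat_lift_regular {A B : Type u} [CommRing A] [IsLocalRing A] [IsNoetherianRing A]
    [CommRing B] [IsRegularLocalRing B]
    [IsAdicComplete (maximalIdeal B) B] [Algebra (ResidueField A) B] :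
    ∃ (C : Type u) (_ : CommRing C) (_ : IsLocalRing C) (_ : Algebra A C),
      IsNoetherianRing C ∧ IsAdicComplete (maximalIdeal C) C ∧ IsLocalHom (algebraMap A C) ∧
        Module.Flat A C ∧ ∃ π : C →+* B, Function.Surjective π ∧
          (∀ a, π (algebraMap A C a) = algebraMap (ResidueField A) B (residue A a)) ∧
          RingHom.ker π = (maximalIdeal A).map (algebraMap A C) := by
  classical
  let Ah := AdicCompletion (maximalIdeal A) A
  have hne : maximalIdeal A ≠ ⊤ := (maximalIdeal.isMaximal A).ne_top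
  haveI : IsLocalRing Ah := RegLocal.isLocalRing_completion A _ hne
  have hmA := RegLocal.maximalIdeal_completion A _ hne
  haveI : IsAdicComplete (maximalIdeal Ah) Ah := by
    rw [hmA]; exact AdicCompletion.isAdicComplete_self _ (maximalIdeal A).fg_of_isNoetherianRing
  haveI : IsLocalHom (algebraMap A Ah) := ((local_hom_TFAE _).out 0 2).mpr hmA.ge
  haveI : Module.Flat A Ah := by
    haveI := RegLocal.faithfullyFlat_completion A _ hne
    infer_instance
  have hres : Function.Bijective (ResidueField.map (algebraMap A Ah)) := by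
    refine ⟨(ResidueField.map (algebraMap A Ah)).injective, fun z => ?_⟩
    obtain ⟨z, rfl⟩ := residue_surjective z
    obtain ⟨a, ha⟩ := Ideal.Quotient.mk_surjective ((AdicCompletion.evalOneₐ (maximalIdeal A)).toRingHom z)
    refine ⟨residue A a, ?_⟩
    rw [ResidueField.map_residue]
    refine (Ideal.Quotient.eq (I := maximalIdeal Ah)).2 ?_
    rw [hmA, ← AdicCompletion.ker_evalOneₐ_eq_map _ (maximalIdeal A).fg_of_isNoetherianRing, RingHom.mem_ker,
      map_sub, ← ha, sub_eq_zero]
    rfl
  let e := RingEquiv.ofBijective _ hres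
  letI : Algebra (ResidueField Ah) B := ((algebraMap (ResidueField A) B).comp e.symm.toRingHom).toAlgebra
  obtain ⟨C, _, _, _, hnoe, hcomp, hloc, hflat, π, hπ, hπa, hker⟩ :=
    exists_flat_lift_regular_complete (A := Ah) (B := B)
  letI : Algebra A C := Algebra.compHom C (algebraMap A Ah)
  haveI : IsScalarTower A Ah C := IsScalarTower.of_algebraMap_eq fun _ => rfl
  haveI := hflat
  haveI := hloc
  refine ⟨C, inferInstance, inferInstance, inferInstance, hnoe, hcomp, RingHom.isLocalHom_comp (algebraMap Ah C) (algebraMap A Ah),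
    Module.Flat.trans A Ah C, π, hπ, fun a => ?_, ?_⟩
  · show π (algebraMap Ah C (algebraMap A Ah a)) = _
    rw [hπa]
    show algebraMap (ResidueField A) B (e.symm (residue Ah (algebraMap A Ah a))) = _
    congr 1
    rw [RingEquiv.symm_apply_eq]
    exact (ResidueField.map_residue (algebraMap A Ah) a).symm
  · rw [hker, IsScalarTower.algebraMap_eq A Ah C, ← Ideal.map_map, hmA]

theorem fibre_equiv_of_ker {A B C : Type u} [CommRing A] [IsLocalRing A] [CommRing B] [CommRing C] [Algebra A C]
    [Algebra (ResidueField A) B] (π : C →+* B) (hπ : Function.Surjective π)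
    (hπa : ∀ a, π (algebraMap A C a) = algebraMap (ResidueField A) B (residue A a))
    (hker : RingHom.ker π = (maximalIdeal A).map (algebraMap A C)) :
    Nonempty (ResidueField A ⊗[A] C ≃ₐ[ResidueField A] B) := by
  letI : Algebra A B := ((algebraMap (ResidueField A) B).comp (residue A)).toAlgebra
  haveI : IsScalarTower A (ResidueField A) B := IsScalarTower.of_algebraMap_eq fun _ => rfl
  let πA : C →ₐ[A] B := { π with commutes' := hπa }
  let Φ : ResidueField A ⊗[A] C →ₐ[ResidueField A] B :=
    Algebra.TensorProduct.lift (Algebra.ofId (ResidueField A) B) πA fun _ _ => Commute.all _ _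
  have hΦ : ∀ c, Φ ((1 : ResidueField A) ⊗ₜ[A] c) = π c := fun c => by
    refine (Algebra.TensorProduct.lift_tmul (Algebra.ofId (ResidueField A) B) πA
      (fun _ _ => Commute.all _ _) (1 : ResidueField A) c).trans ?_
    rw [map_one, one_mul]
    rfl
  refine ⟨AlgEquiv.ofBijective Φ ⟨(injective_iff_map_eq_zero _).2 fun z hz => ?_, fun b => ?_⟩⟩
  · obtain ⟨c, rfl⟩ : ∃ c : C, (1 : ResidueField A) ⊗ₜ[A] c = z :=
      TensorProduct.mk_surjective A C (ResidueField A) residue_surjective z
    have hc : c ∈ (maximalIdeal A • ⊤ : Submodule A C) := by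
      rw [Ideal.smul_top_eq_map, Submodule.restrictScalars_mem, ← hker, RingHom.mem_ker, ← hΦ]
      exact hz
    rw [← LinearMap.ker_tensorProductMk C] at hc
    exact hc
  · obtain ⟨c, rfl⟩ := hπ b
    exact ⟨_, hΦ c⟩

end Groth.Agent.CohenPresLib
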