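import Groth.Agent.CohenPresLib.Basic
import Groth.Agent.S2471
import Groth.Agent.FieldExtLib.CompleteLift
import Groth.Agent.FieldExtLib.Imperfection
import Groth.Prelude.Def_EGA41
import Mathlib.RingTheory.MvPowerSeries.Derivative

/-!
Formally smooth local algebras with prescribed residue field and the imperfection module.
-/

set_option autoImplicit false
set_option linter.style.haveILetI false
set_option maxRecDepth 4000
universe u

open IsLocalRing TensorProduct

noncomputable section

namespace Groth.Agent.CohenPresLib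

variable {k K A : Type u} [Field k] [Field K] [Algebra k K] [CommRing A] [IsLocalRing A] [Algebra k A]
  [Algebra A K] [IsScalarTower k A K]

/-- `K ⊗ Ω_k → K ⊗ Ω_A`. -/
def diffBaseMap : K ⊗[k] Ω[k⁄ℤ] →ₗ[K] K ⊗[A] Ω[A⁄ℤ] :=
  (KaehlerDifferential.mapBaseChange ℤ k A).baseChange K ∘ₗ
    (AlgebraTensorModule.cancelBaseChange k A K K Ω[k⁄ℤ]).symm.toLinearMap

theorem diffBaseMap_tmul (c : K) (ω : Ω[k⁄ℤ]) :
    diffBaseMap (A := A) (c ⊗ₜ[k] ω) = c ⊗ₜ[A] KaehlerDifferential.map ℤ ℤ k A ω := by
  show (KaehlerDifferential.mapBaseChange ℤ k A).baseChange K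
    ((AlgebraTensorModule.cancelBaseChange k A K K Ω[k⁄ℤ]).symm (c ⊗ₜ[k] ω)) = _
  rw [show (AlgebraTensorModule.cancelBaseChange k A K K Ω[k⁄ℤ]).symm (c ⊗ₜ[k] ω) = c ⊗ₜ[A] ((1 : A) ⊗ₜ[k] ω) from rfl,
    LinearMap.baseChange_tmul, KaehlerDifferential.mapBaseChange_tmul, one_smul]

theorem mapBaseChange_diffBaseMap (x : K ⊗[k] Ω[k⁄ℤ]) :
    KaehlerDifferential.mapBaseChange ℤ A K (diffBaseMap (A := A) x) = KaehlerDifferential.mapBaseChange ℤ k K x := by
  induction x using TensorProduct.induction_on with
  | zero => simp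
  | tmul c ω =>
    rw [diffBaseMap_tmul, KaehlerDifferential.mapBaseChange_tmul, KaehlerDifferential.mapBaseChange_tmul]
    congr 1
    have hω : ω ∈ Submodule.span k (Set.range (KaehlerDifferential.D ℤ k)) := by
      rw [KaehlerDifferential.span_range_derivation]; trivial
    induction hω using Submodule.span_induction with
    | mem y hy =>
      obtain ⟨a, rfl⟩ := hy
      rw [KaehlerDifferential.map_D, KaehlerDifferential.map_D, KaehlerDifferential.map_D,
        ← IsScalarTower.algebraMap_apply]
    | zero => simp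
    | add y z _ _ hy hz => rw [map_add, map_add, map_add, hy, hz]
    | smul a y _ hy =>
      rw [map_smul (KaehlerDifferential.map ℤ ℤ k A), map_smul (KaehlerDifferential.map ℤ ℤ k K),
        ← IsScalarTower.algebraMap_smul A a, map_smul, hy, IsScalarTower.algebraMap_smul]
  | add x y hx hy => rw [map_add, map_add, hx, hy, map_add]

theorem lTensor_injective_iff (hsurj : Function.Surjective (algebraMap A K)) {M N : Type u} [AddCommGroup M]
    [Module A M] [AddCommGroup N] [Module A N] (f : M →ₗ[A] N) :
    Function.Injective (f.lTensor (ResidueField A)) ↔ Function.Injective (f.lTensor K) := by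
  have hker : RingHom.ker (algebraMap A K) = maximalIdeal A :=
    eq_maximalIdeal (RingHom.ker_isMaximal_of_surjective _ hsurj)
  let e : ResidueField A ≃ₗ[A] K :=
    ((Ideal.quotientEquivAlgOfEq A hker.symm).trans
      (Ideal.quotientKerAlgEquivOfSurjective (f := Algebra.ofId A K) hsurj)).toLinearEquiv
  have h : ∀ z, f.lTensor K ((e.rTensor M) z) = (e.rTensor N) (f.lTensor (ResidueField A) z) := fun z => by
    induction z using TensorProduct.induction_on with
    | zero => simp
    | tmul a m => simp [LinearEquiv.rTensor]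
    | add a b ha hb => simp only [map_add, ha, hb]
  have h' : (f.lTensor K : K ⊗[A] M → K ⊗[A] N) ∘ (e.rTensor M) = (e.rTensor N) ∘ f.lTensor (ResidueField A) :=
    funext h
  rw [← Function.Injective.of_comp_iff' (f.lTensor K) (e.rTensor M).bijective, h',
    (e.rTensor N).injective.of_comp_iff]

theorem diffBaseMap_injective_iff (hsurj : Function.Surjective (algebraMap A K)) :
    Function.Injective ((KaehlerDifferential.mapBaseChange ℤ k A).lTensor (ResidueField A)) ↔
      Function.Injective (diffBaseMap (k := k) (K := K) (A := A)) := by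
  rw [lTensor_injective_iff hsurj, ← LinearMap.baseChange_eq_ltensor]
  exact (Function.Injective.of_comp_iff' _
    (AlgebraTensorModule.cancelBaseChange k A K K Ω[k⁄ℤ]).symm.bijective).symm

/-- The residue field of a formally smooth Noetherian local algebra has finite imperfection. -/
theorem imperfection_finite [IsNoetherianRing A] (hsurj : Function.Surjective (algebraMap A K))
    (hA : CAlgX.IsAdicFormallySmooth k A (maximalIdeal A)) : Module.Finite K (EGA41.imperfection ℤ k K) := by
  have hinj := (diffBaseMap_injective_iff hsurj).1 (S2471.result.1 hA).2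
  let N := LinearMap.ker (KaehlerDifferential.mapBaseChange ℤ A K)
  have hex := KaehlerDifferential.exact_kerCotangentToTensor_mapBaseChange ℤ A K hsurj
  let g : (RingHom.ker (algebraMap A K)).Cotangent →ₗ[A] N :=
    (KaehlerDifferential.kerCotangentToTensor ℤ A K).codRestrict (N.restrictScalars A)
      fun x => LinearMap.mem_ker.2 (hex.apply_apply_eq_zero x)
  have hg : Function.Surjective g := fun z => by
    obtain ⟨x, hx⟩ := (hex z.1).1 (LinearMap.mem_ker.1 z.2)
    exact ⟨x, Subtype.ext hx⟩
  haveI : Module.Finite A (RingHom.ker (algebraMap A K)).Cotangent :=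
    Module.Finite.of_surjective (Ideal.toCotangent _) (Ideal.toCotangent_surjective _)
  haveI : Module.Finite A N := Module.Finite.of_surjective g hg
  haveI : Module.Finite K N := Module.Finite.of_restrictScalars_finite A K N
  haveI : IsNoetherian K N := isNoetherian_of_isNoetherianRing_of_finite K N
  let h : EGA41.imperfection ℤ k K →ₗ[K] N :=
    (diffBaseMap (A := A)).restrict fun x hx => LinearMap.mem_ker.2
      ((mapBaseChange_diffBaseMap x).trans (LinearMap.mem_ker.1 hx))
  exact Module.Finite.of_injective h fun x y hxy => Subtype.ext (hinj (congrArg Subtype.val hxy))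

theorem diffBaseMap_injective_of_derivations {n : ℕ} (δA : Fin n → A →+ K)
    (hl : ∀ i a b, δA i (a * b) = a • δA i b + b • δA i a)
    (φ : K ⊗[k] Ω[k⁄ℤ] →ₗ[K] (Fin n → K))
    (hd : ∀ i c, δA i (algebraMap k A c) = φ ((1 : K) ⊗ₜ[k] KaehlerDifferential.D ℤ k c) i)
    (hφ : ∀ x ∈ EGA41.imperfection ℤ k K, φ x = 0 → x = 0) :
    Function.Injective (diffBaseMap (k := k) (K := K) (A := A)) := by
  let d : Fin n → Derivation ℤ A K := fun i => Derivation.mk' (δA i).toIntLinearMap (hl i)
  let Λ : K ⊗[A] Ω[A⁄ℤ] →ₗ[K] (Fin n → K) :=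
    LinearMap.pi fun i => (d i).liftKaehlerDifferential.liftBaseChange K
  have hΛ : ∀ x, Λ (diffBaseMap (A := A) x) = φ x := fun x => by
    induction x using TensorProduct.induction_on with
    | zero => simp
    | tmul c ω =>
      have hω : ω ∈ Submodule.span k (Set.range (KaehlerDifferential.D ℤ k)) := by
        rw [KaehlerDifferential.span_range_derivation]; trivial
      induction hω using Submodule.span_induction generalizing c with
      | mem y hy =>
        obtain ⟨a, rfl⟩ := hy
        rw [diffBaseMap_tmul, KaehlerDifferential.map_D,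
          show c ⊗ₜ[k] KaehlerDifferential.D ℤ k a = c • ((1 : K) ⊗ₜ[k] KaehlerDifferential.D ℤ k a) by
            rw [TensorProduct.smul_tmul', smul_eq_mul, mul_one], map_smul]
        ext i
        show ((d i).liftKaehlerDifferential.liftBaseChange K) (c ⊗ₜ[A] KaehlerDifferential.D ℤ A (algebraMap k A a)) = _
        rw [LinearMap.liftBaseChange_tmul, Derivation.liftKaehlerDifferential_comp_D, show d i (algebraMap k A a) = δA i (algebraMap k A a) from rfl, hd]
        rfl
      | zero => simp
      | add y z _ _ hy hz => simp only [TensorProduct.tmul_add, map_add, hy, hz]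
      | smul a y _ hy =>
        rw [← TensorProduct.smul_tmul]
        exact hy _
    | add x y hx hy => simp only [map_add, hx, hy]
  rw [injective_iff_map_eq_zero]
  intro x hx
  refine hφ x (LinearMap.mem_ker.2 ?_) (by rw [← hΛ, hx, map_zero])
  rw [← mapBaseChange_diffBaseMap (A := A), hx, map_zero]

theorem exists_formallySmooth_dim (k K : Type u) [Field k] [Field K] [Algebra k K]
    [Module.Finite K (EGA41.imperfection ℤ k K)] (n : ℕ)
    (hn : Module.finrank K (EGA41.imperfection ℤ k K) ≤ n) :
    ∃ (A : Type u) (_ : CommRing A) (_ : IsLocalRing A) (_ : IsNoetherianRing A) (_ : Algebra k A),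
      IsAdicComplete (maximalIdeal A) A ∧ CAlgX.IsAdicFormallySmooth k A (maximalIdeal A) ∧
        Nonempty (ResidueField A ≃ₐ[k] K) ∧ ringKrullDim A = n := by
  classical
  let A := MvPowerSeries (Fin n) K
  obtain ⟨hreg, hdim⟩ := regular_ps (Λ := K) (d := 0) ![]
    (by rw [Set.range_eq_empty, Ideal.span_empty]; exact (IsLocalRing.isField_iff_maximalIdeal_eq (R := K)).1 (Field.toIsField K))
    (ringKrullDim_eq_zero_of_field K) n
  haveI : IsAdicComplete (maximalIdeal K) K := by
    rw [(IsLocalRing.isField_iff_maximalIdeal_eq (R := K)).1 (Field.toIsField K)]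
    infer_instance
  haveI := hreg
  haveI hcompl : IsAdicComplete (maximalIdeal A) A := by
    obtain ⟨-, -, -, h⟩ := ArtFunLib.exists_psCRing (k := K) (Λ := K) Function.surjective_id n
    exact h
  -- a linear map injective on the imperfection
  haveI : Module.Free K (EGA41.imperfection ℤ k K) :=
    @Module.Free.of_divisionRing K (EGA41.imperfection ℤ k K) _ (Submodule.addCommGroup _) _
  let b := Module.finBasis K (EGA41.imperfection ℤ k K)
  let pad : (Fin (Module.finrank K (EGA41.imperfection ℤ k K)) → K) →ₗ[K] (Fin n → K) :=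
    Function.ExtendByZero.linearMap K (Fin.castLE hn)
  have hpad : Function.Injective pad := Function.extend_injective (Fin.castLE_injective hn) _
  obtain ⟨φ, hφ⟩ := LinearMap.exists_extend (pad ∘ₗ b.equivFun.toLinearMap)
  have hφinj : ∀ x ∈ EGA41.imperfection ℤ k K, φ x = 0 → x = 0 := fun x hx h => by
    have h1 : pad (b.equivFun ⟨x, hx⟩) = pad (b.equivFun 0) := by
      rw [map_zero, map_zero]
      exact (LinearMap.congr_fun hφ ⟨x, hx⟩).symm.trans h
    exact congrArg Subtype.val (b.equivFun.injective (hpad h1))
  let δ : k → Fin n → K := fun c => φ ((1 : K) ⊗ₜ[k] KaehlerDifferential.D ℤ k c)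
  have hδadd : ∀ a b, δ (a + b) = δ a + δ b := fun a b => by
    simp only [δ, map_add, TensorProduct.tmul_add]
  have hδmul : ∀ a b, δ (a * b) = algebraMap k K a • δ b + algebraMap k K b • δ a := fun a b => by
    simp only [δ, Derivation.leibniz, TensorProduct.tmul_add, map_add, TensorProduct.tmul_smul]
    rw [← IsScalarTower.algebraMap_smul K a, ← IsScalarTower.algebraMap_smul K b, map_smul, map_smul]
  have hδone : δ 1 = 0 := by simp [δ]
  let lin : (Fin n → K) → A := fun v => ∑ i, MvPowerSeries.C (v i) * MvPowerSeries.X i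
  have hXm : ∀ i, (MvPowerSeries.X i : A) ∈ maximalIdeal A := fun i hu => by
    simpa using MvPowerSeries.isUnit_constantCoeff _ hu
  have hlin : ∀ v, lin v ∈ maximalIdeal A := fun v =>
    sum_mem fun i _ => Ideal.mul_mem_left _ _ (hXm i)
  have hlinadd : ∀ v w, lin (v + w) = lin v + lin w := fun v w => by
    simp [lin, add_mul, Finset.sum_add_distrib]
  have hlinsmul : ∀ (a : K) v, lin (a • v) = MvPowerSeries.C a * lin v := fun a v => by
    simp [lin, Finset.mul_sum, mul_assoc]
  let I2 : Ideal A := maximalIdeal A ^ (1 + 1)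
  let θ : k →+* A ⧸ I2 :=
    { toFun := fun c => Ideal.Quotient.mk I2 (MvPowerSeries.C (algebraMap k K c) + lin (δ c))
      map_one' := by simp [hδone, lin]
      map_zero' := by simp [δ, lin]
      map_add' := fun a b => by
        rw [← map_add (Ideal.Quotient.mk I2), hδadd, hlinadd, map_add (algebraMap k K), map_add MvPowerSeries.C]
        congr 1
        ring
      map_mul' := fun a b => by
        rw [← map_mul, hδmul, hlinadd, hlinsmul, hlinsmul, map_mul, map_mul, Ideal.Quotient.eq]
        have h2 : lin (δ a) * lin (δ b) ∈ I2 := by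
          rw [show I2 = maximalIdeal A * maximalIdeal A from pow_two _]
          exact Ideal.mul_mem_mul (hlin _) (hlin _)
        convert neg_mem h2 using 1
        ring }
  have lift : ∀ (F : Type u) [Field F] [Algebra F k] [Algebra F A] [Algebra.FormallySmooth F k],
      (∀ f g : F →+* A ⧸ I2, f = g) → ∃ ι : k →+* A, ∀ c, Ideal.Quotient.mk I2 (ι c) = θ c := by
    intro F _ _ _ _ hext
    obtain ⟨G, hG⟩ := FieldExtLib.exists_lift_complete (maximalIdeal A) 1
      ({ θ with commutes' := fun r => RingHom.congr_fun (hext (θ.comp (algebraMap F k)) (algebraMap F (A ⧸ I2))) r } :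
        k →ₐ[F] A ⧸ I2)
    exact ⟨G.toRingHom, AlgHom.congr_fun hG⟩
  obtain ⟨ι, hι⟩ : ∃ ι : k →+* A, ∀ c, Ideal.Quotient.mk I2 (ι c) = θ c := by
    obtain _ | ⟨p, hp, hpk⟩ := CharP.exists' k
    · haveI : CharZero K := charZero_of_injective_algebraMap (algebraMap k K).injective
      letI : Algebra (ULift.{u} ℚ) k := ((algebraMap ℚ k).comp ULift.ringEquiv.toRingHom).toAlgebra
      letI : Algebra (ULift.{u} ℚ) A :=
        ((MvPowerSeries.C.comp (algebraMap ℚ K)).comp ULift.ringEquiv.toRingHom).toAlgebra
      haveI : CharZero (ULift.{u, 0} ℚ) :=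
        charZero_of_injective_ringHom (f := (ULift.ringEquiv.{0, u} (R := ℚ)).symm.toRingHom) (RingEquiv.injective _)
      haveI : PerfectField (ULift.{u} ℚ) := PerfectField.ofCharZero
      haveI := FieldExtLib.formallySmooth_field_of_perfectField (ULift.{u} ℚ) k
      refine lift (ULift.{u} ℚ) fun f g => RingHom.ext fun x => ?_
      exact RingHom.congr_fun (RingHom.ext_rat (f.comp ULift.ringEquiv.symm.toRingHom)
        (g.comp ULift.ringEquiv.symm.toRingHom)) x.down
    · haveI := hp
      haveI : CharP K p := charP_of_injective_algebraMap (algebraMap k K).injective p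
      letI := ZMod.algebra k p
      letI := ZMod.algebra K p
      letI : Algebra (ULift.{u} (ZMod p)) k := ((algebraMap (ZMod p) k).comp ULift.ringEquiv.toRingHom).toAlgebra
      letI : Algebra (ULift.{u} (ZMod p)) A :=
        ((MvPowerSeries.C.comp (algebraMap (ZMod p) K)).comp ULift.ringEquiv.toRingHom).toAlgebra
      haveI : PerfectField (ULift.{u} (ZMod p)) := PerfectField.ofFinite
      haveI := FieldExtLib.formallySmooth_field_of_perfectField (ULift.{u} (ZMod p)) k
      refine lift (ULift.{u} (ZMod p)) fun f g => RingHom.ext fun x => ?_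
      exact RingHom.congr_fun (RingHom.ext_zmod (f.comp ULift.ringEquiv.symm.toRingHom)
        (g.comp ULift.ringEquiv.symm.toRingHom)) x.down
  letI : Algebra k A := ι.toAlgebra
  letI : Algebra A K := (MvPowerSeries.constantCoeff (σ := Fin n) (R := K)).toAlgebra
  have hsurj : Function.Surjective (algebraMap A K) := fun c => ⟨MvPowerSeries.C c, MvPowerSeries.constantCoeff_C c⟩
  have hker : RingHom.ker (algebraMap A K) = maximalIdeal A :=
    eq_maximalIdeal (RingHom.ker_isMaximal_of_surjective _ hsurj)
  have hdec : ∀ c, ∃ z ∈ I2, ι c = MvPowerSeries.C (algebraMap k K c) + lin (δ c) + z := fun c =>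
    ⟨_, Ideal.Quotient.eq.1 (hι c), (add_sub_cancel _ _).symm⟩
  have hI2 : ∀ z ∈ I2, algebraMap A K z = 0 := fun z hz =>
    RingHom.mem_ker.1 (hker.ge (Ideal.pow_le_self (by norm_num) hz))
  haveI : IsScalarTower K A K := IsScalarTower.of_algebraMap_eq fun c => (MvPowerSeries.constantCoeff_C c).symm
  haveI : IsScalarTower ℤ A K := IsScalarTower.of_algebraMap_eq' (RingHom.ext_int _ _)
  haveI : IsScalarTower k A K := IsScalarTower.of_algebraMap_eq fun c => by
    obtain ⟨z, hz, hc⟩ := hdec c
    show _ = algebraMap A K (ι c)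
    rw [hc, map_add, map_add, hI2 z hz, RingHom.mem_ker.1 (hker.ge (hlin _)), add_zero, add_zero]
    exact (MvPowerSeries.constantCoeff_C _).symm
  -- the partial derivatives at the origin
  let d : Fin n → Derivation ℤ A K := fun i =>
    ((Algebra.linearMap A K).compDer (MvPowerSeries.pderiv K i)).restrictScalars ℤ
  have hd : ∀ i f, d i f = MvPowerSeries.constantCoeff (MvPowerSeries.pderiv K i f) := fun i f => rfl
  have hd2 : ∀ i, ∀ z ∈ I2, d i z = 0 := fun i z hz => by
    rw [show I2 = maximalIdeal A * maximalIdeal A from pow_two _] at hz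
    induction hz using Submodule.mul_induction_on' with
    | mem_mul_mem a ha b hb =>
      rw [Derivation.leibniz, Algebra.smul_def, Algebra.smul_def, RingHom.mem_ker.1 (hker.ge ha),
        RingHom.mem_ker.1 (hker.ge hb), zero_mul, zero_mul, add_zero]
    | add a _ b _ ha hb => rw [map_add, ha, hb, add_zero]
  have hdι : ∀ i c, d i (ι c) = δ c i := fun i c => by
    obtain ⟨z, hz, hc⟩ := hdec c
    rw [hc, map_add, hd2 i z hz, add_zero, hd]
    simp only [lin, map_add, map_sum, Derivation.leibniz, MvPowerSeries.pderiv_C, smul_eq_mul, mul_zero,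
      add_zero, zero_add, map_mul, MvPowerSeries.constantCoeff_C]
    rw [Finset.sum_eq_single i]
    · simp
    · intro j _ hj
      simp [MvPowerSeries.pderiv_X_of_ne hj]
    · simp
  have hinj : Function.Injective (diffBaseMap (k := k) (K := K) (A := A)) :=
    diffBaseMap_injective_of_derivations (fun i => (d i).toAddMonoidHom) (fun i => (d i).leibniz) φ
      (fun i c => hdι i c) hφinj
  refine ⟨A, inferInstance, inferInstance, inferInstance, inferInstance, hcompl,
    S2471.result.2 ⟨hreg, (diffBaseMap_injective_iff hsurj).2 hinj⟩, ⟨?_⟩, by simpa using hdim⟩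
  exact ((Ideal.quotientEquivAlgOfEq A hker.symm).trans
    (Ideal.quotientKerAlgEquivOfSurjective (f := Algebra.ofId A K) hsurj)).restrictScalars k

end Groth.Agent.CohenPresLib
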